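import Groth.Agent.FibDescLib.Compose
import Mathlib.AlgebraicTopology.SimplicialObject.Coskeletal
import Mathlib.CategoryTheory.Limits.Constructions.Over.Basic

/-!
Coskeleta of simplicial spaces over a base: extension of truncated maps, and universal descent in all degrees of a map
which is an isomorphism below the top degree.
-/

set_option autoImplicit false
set_option backward.isDefEq.respectTransparency false
set_option backward.isDefEq.respectTransparency.types false
set_option linter.style.haveILetI false

universe v u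

open CategoryTheory CategoryTheory.Limits Opposite TopologicalSpace Simplicial

namespace Groth.Agent.FibDescHyper

open FibDescLib

section General

variable {C : Type u} [Category.{v} C]

/-- Maps into a simplicial object are determined in low degrees. -/
def Determined (N : ℕ) (K : SimplicialObject C) : Prop :=
  ∀ (X : SimplicialObject C) (g g' : X ⟶ K),
    (∀ j : SimplexCategory, j.len ≤ N → g.app (op j) = g'.app (op j)) → g = g'

/-- Truncated maps into a simplicial object extend. -/
def Extends (N : ℕ) (K : SimplicialObject C) : Prop :=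
  ∀ (X : SimplicialObject C) (g : ∀ j : SimplexCategory, j.len ≤ N → (X.obj (op j) ⟶ K.obj (op j))),
    (∀ (j j' : SimplexCategory) (h : j.len ≤ N) (h' : j'.len ≤ N) (φ : j' ⟶ j),
      X.map φ.op ≫ g j' h' = g j h ≫ K.map φ.op) →
      ∃ G : X ⟶ K, ∀ j h, G.app (op j) = g j h

variable {N : ℕ} [∀ (G : (SimplexCategory.Truncated N)ᵒᵖ ⥤ C),
    (SimplexCategory.Truncated.inclusion N).op.HasRightKanExtension G]
  [∀ (G : (SimplexCategory.Truncated N)ᵒᵖ ⥤ C),
    (SimplexCategory.Truncated.inclusion N).op.HasPointwiseRightKanExtension G]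
  (P : SimplicialObject.Truncated C N)

/-- The coskeleton. -/
noncomputable abbrev coskP : SimplicialObject C := (SimplicialObject.Truncated.cosk N).obj P

theorem trunc_homEquiv {X : SimplicialObject C} (g : X ⟶ coskP P) :
    (SimplicialObject.truncation N).map g ≫ (SimplicialObject.coskAdj N).counit.app P =
      ((SimplicialObject.coskAdj N).homEquiv X P).symm g :=
  (Adjunction.homEquiv_counit _ _ _ _).symm

theorem determined_cosk : Determined N (coskP P) := fun X g g' h => by
  apply ((SimplicialObject.coskAdj N).homEquiv X P).symm.injective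
  rw [← trunc_homEquiv, ← trunc_homEquiv]
  refine congrArg (fun t => t ≫ (SimplicialObject.coskAdj N).counit.app P) ?_
  apply NatTrans.ext
  funext j
  exact h j.unop.obj j.unop.property

theorem extends_cosk : Extends N (coskP P) := by
  intro X g hg
  let ε := (SimplicialObject.coskAdj N).counit.app P
  let t : (SimplicialObject.truncation N).obj X ⟶ (SimplicialObject.truncation N).obj (coskP P) :=
    { app := fun j => g j.unop.obj j.unop.property
      naturality := fun j j' φ => hg _ _ j.unop.property j'.unop.property φ.unop.hom }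
  haveI : IsIso ε := inferInstance
  refine ⟨(SimplicialObject.coskAdj N).homEquiv X P (t ≫ ε), fun j hj => ?_⟩
  have h := trunc_homEquiv P ((SimplicialObject.coskAdj N).homEquiv X P (t ≫ ε))
  rw [Equiv.symm_apply_apply, cancel_mono] at h
  exact congr_app h (op ⟨j, hj⟩)

theorem Determined.mono {N M : ℕ} (hle : N ≤ M) {K : SimplicialObject C} (h : Determined N K) : Determined M K :=
  fun X g g' hg => h X g g' fun j hj => hg j (hj.trans hle)

end General

section Step

variable {S : TopCat.{u}} {N : ℕ} {K'' K' : SimplicialObject (Over S)} (f : K'' ⟶ K')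
  (hlow : ∀ j : SimplexCategory, j.len < N → IsIso (f.app (op j)))

theorem exists_factor {j m : SimplexCategory} (hj : j.len ≤ N) (a : j ⟶ m) (ha : ¬ Mono a) :
    ∃ (k : SimplexCategory) (e : j ⟶ k) (i : k ⟶ m), Epi e ∧ Mono i ∧ e ≫ i = a ∧ k.len < N := by
  refine ⟨image a, factorThruImage a, image.ι a, inferInstance, inferInstance, image.fac a, ?_⟩
  refine lt_of_lt_of_le ?_ hj
  refine lt_of_le_of_ne (SimplexCategory.len_le_of_epi (factorThruImage a)) fun h => ha ?_
  have e : image a = j := SimplexCategory.ext h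
  haveI : Mono (factorThruImage a ≫ eqToHom e) := by
    rw [SimplexCategory.eq_id_of_epi (factorThruImage a ≫ eqToHom e)]
    infer_instance
  haveI : Mono (factorThruImage a) := mono_of_mono _ (eqToHom e)
  rw [← image.fac a]
  infer_instance

include hlow in
/-- A coherent choice of maps to all simplices of a fixed level, out of one for the injective top ones. -/
theorem exists_cone {m : SimplexCategory} {W : Over S} (p : W ⟶ K'.obj (op m))
    (t : ∀ (j : SimplexCategory) (a : j ⟶ m), Mono a → j.len = N →
      ∃ u : W ⟶ K''.obj (op j), u ≫ f.app (op j) = p ≫ K'.map a.op) :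
    ∃ P : ∀ (j : SimplexCategory), j.len ≤ N → (j ⟶ m) → (W ⟶ K''.obj (op j)),
      (∀ j h a, P j h a ≫ f.app (op j) = p ≫ K'.map a.op) ∧
      ∀ (j j' : SimplexCategory) (h : j.len ≤ N) (h' : j'.len ≤ N) (φ : j' ⟶ j) (a : j ⟶ m),
        P j' h' (φ ≫ a) = P j h a ≫ K''.map φ.op := by
  classical
  let Q : ∀ (j : SimplexCategory), j.len < N → (j ⟶ m) → (W ⟶ K''.obj (op j)) := fun j h a =>
    haveI := hlow j h
    p ≫ K'.map a.op ≫ inv (f.app (op j))
  have hQ : ∀ j h a, Q j h a ≫ f.app (op j) = p ≫ K'.map a.op := fun j h a => by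
    haveI := hlow j h
    simp [Q]
  have Qnat : ∀ (j j' : SimplexCategory) (h : j.len < N) (h' : j'.len < N) (φ : j' ⟶ j) (a : j ⟶ m),
      Q j' h' (φ ≫ a) = Q j h a ≫ K''.map φ.op := fun j j' h h' φ a => by
    haveI := hlow j' h'
    rw [← cancel_mono (f.app (op j')), hQ j' h', Category.assoc, f.naturality, ← Category.assoc, hQ j h, Category.assoc,
      ← Functor.map_comp, op_comp]
  let P : ∀ (j : SimplexCategory), j.len ≤ N → (j ⟶ m) → (W ⟶ K''.obj (op j)) := fun j h a =>
    if hlt : j.len < N then Q j hlt a
    else if ha : Mono a then (t j a ha (le_antisymm h (not_lt.1 hlt))).choose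
    else
      Q (exists_factor h a ha).choose (exists_factor h a ha).choose_spec.choose_spec.choose_spec.2.2.2
        (exists_factor h a ha).choose_spec.choose_spec.choose ≫
          K''.map (exists_factor h a ha).choose_spec.choose.op
  have indep : ∀ (j k k' : SimplexCategory) (hk : k.len < N) (hk' : k'.len < N) (σ : j ⟶ k) (b : k ⟶ m)
      (e : j ⟶ k') (i : k' ⟶ m), Mono i → σ ≫ b = e ≫ i → Q k hk b ≫ K''.map σ.op = Q k' hk' i ≫ K''.map e.op := by
    intro j k k' hk hk' σ b e i hi h
    haveI := hi
    let μ := image.ι σ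
    let e₁ := factorThruImage σ
    haveI : IsSplitEpi e₁ := isSplitEpi_of_epi e₁
    let g : image σ ⟶ k' := section_ e₁ ≫ e
    have hμ : μ ≫ b = g ≫ i := by
      have he : e₁ ≫ μ ≫ b = e ≫ i := ((Category.assoc _ _ _).symm.trans (congrArg (fun t => t ≫ b) (image.fac σ))).trans h
      refine (IsSplitEpi.id_assoc e₁ (μ ≫ b)).symm.trans ?_
      exact (congrArg (CategoryStruct.comp (section_ e₁)) he).trans (Category.assoc _ _ _).symm
    have hg : e₁ ≫ g = e := by
      rw [← cancel_mono i, Category.assoc, ← hμ, ← Category.assoc, image.fac σ, h]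
    have hk₁ : (image σ).len < N := lt_of_le_of_lt (SimplexCategory.len_le_of_mono μ) hk
    calc Q k hk b ≫ K''.map σ.op = Q k hk b ≫ K''.map μ.op ≫ K''.map e₁.op := by
          rw [← Functor.map_comp, ← op_comp, image.fac σ]
      _ = Q (image σ) hk₁ (g ≫ i) ≫ K''.map e₁.op := by rw [← hμ, Qnat k (image σ) hk hk₁ μ b]; exact (Category.assoc _ _ _).symm
      _ = Q k' hk' i ≫ K''.map g.op ≫ K''.map e₁.op := by rw [Qnat k' (image σ) hk' hk₁ g i]; exact Category.assoc _ _ _
      _ = Q k' hk' i ≫ K''.map e.op := by rw [← Functor.map_comp, ← op_comp, hg]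
  have key : ∀ (j k : SimplexCategory) (h : j.len ≤ N) (hk : k.len < N) (σ : j ⟶ k) (b : k ⟶ m),
      P j h (σ ≫ b) = Q k hk b ≫ K''.map σ.op := by
    intro j k h hk σ b
    by_cases hlt : j.len < N
    · simp only [P, dif_pos hlt]
      exact Qnat k j hk hlt σ b
    · have ha : ¬ Mono (σ ≫ b) := fun hm => by
        haveI := hm
        haveI : Mono σ := mono_of_mono σ b
        exact hlt (lt_of_le_of_lt (SimplexCategory.len_le_of_mono σ) hk)
      simp only [P, dif_neg hlt, dif_neg ha]
      obtain ⟨-, hi, hfac, hk'⟩ := (exists_factor h (σ ≫ b) ha).choose_spec.choose_spec.choose_spec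
      exact (indep j k _ hk hk' σ b _ _ hi hfac.symm).symm
  have hPf : ∀ j h a, P j h a ≫ f.app (op j) = p ≫ K'.map a.op := by
    intro j h a
    by_cases hlt : j.len < N
    · simp only [P, dif_pos hlt]
      exact hQ j hlt a
    · by_cases ha : Mono a
      · simp only [P, dif_neg hlt, dif_pos ha]
        exact (t j a ha (le_antisymm h (not_lt.1 hlt))).choose_spec
      · obtain ⟨k, e, i, -, -, hfac, hk⟩ := exists_factor h a ha
        rw [← hfac, key j k h hk e i, Category.assoc, f.naturality, ← Category.assoc, hQ k hk, Category.assoc,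
          ← Functor.map_comp, op_comp]
  have hPlow : ∀ j h (hlt : j.len < N) a, P j h a = Q j hlt a := fun j h hlt a => by simp only [P, dif_pos hlt]
  refine ⟨P, hPf, fun j j' h h' φ a => ?_⟩
  by_cases hlt : j.len < N
  · rw [key j' j h' hlt φ a, hPlow j h hlt a]
  by_cases ha : Mono a
  · by_cases hlt' : j'.len < N
    · haveI := hlow j' hlt'
      rw [← cancel_mono (f.app (op j')), hPf j' h', Category.assoc, f.naturality, ← Category.assoc, hPf j h, Category.assoc,
        ← Functor.map_comp, op_comp]
    · obtain rfl : j' = j := SimplexCategory.ext (by omega)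
      by_cases hφ : Mono φ
      · rw [SimplexCategory.eq_id_of_mono φ, Category.id_comp, op_id, K''.map_id, Category.comp_id]
      · obtain ⟨k, e, i, -, hi, hfac, hk⟩ := exists_factor h φ hφ
        haveI := hlow k hk
        have e1 : Q k hk (i ≫ a) = P j' h a ≫ K''.map i.op := by
          rw [← cancel_mono (f.app (op k)), hQ k hk, Category.assoc, f.naturality, ← Category.assoc, hPf j' h, Category.assoc,
            ← Functor.map_comp, op_comp]
        rw [← hfac, Category.assoc, key j' k h' hk e (i ≫ a), e1, Category.assoc, ← Functor.map_comp, op_comp]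
  · obtain ⟨k, e, i, -, -, hfac, hk⟩ := exists_factor h a ha
    rw [← hfac, ← Category.assoc, key j' k h' hk (φ ≫ e) i, key j k h hk e i, Category.assoc (Q k hk i), ← Functor.map_comp,
      op_comp]

/-- The simplicial space `W × Δ[m]` over the base. -/
noncomputable def tensorΔ (W : Over S) (m : SimplexCategory) : SimplicialObject (Over S) where
  obj j := Over.mk (TopCat.ofHom ⟨fun x => W.hom x.2,
    continuous_sigma fun _ => W.hom.hom.continuous⟩ : TopCat.of (Σ _ : (j.unop ⟶ m), W.left) ⟶ S)
  map {j j'} φ := Over.homMk (TopCat.ofHom ⟨fun x => ⟨φ.unop ≫ x.1, x.2⟩,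
    continuous_sigma fun a => continuous_sigmaMk (σ := fun _ : (j'.unop ⟶ m) => W.left) (i := φ.unop ≫ a)⟩) rfl
  map_id j := by
    ext x
    exact Sigma.ext (Category.id_comp _) HEq.rfl
  map_comp φ ψ := by
    ext x
    exact Sigma.ext (Category.assoc _ _ _) HEq.rfl

/-- The component at a simplex. -/
noncomputable def tensorι (W : Over S) {m j : SimplexCategory} (a : j ⟶ m) : W ⟶ (tensorΔ W m).obj (op j) :=
  Over.homMk (TopCat.ofHom ⟨fun w => ⟨a, w⟩, continuous_sigmaMk (σ := fun _ : (j ⟶ m) => W.left)⟩) rfl

/-- A map out of a level. -/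
noncomputable def tensorDesc {W : Over S} {m j : SimplexCategory} {T : Over S} (g : (j ⟶ m) → (W ⟶ T)) :
    (tensorΔ W m).obj (op j) ⟶ T :=
  Over.homMk (TopCat.ofHom ⟨fun x => (g x.1).left x.2, continuous_sigma fun a => (g a).left.hom.continuous⟩) (by
    ext x
    exact ConcreteCategory.congr_hom (Over.w (g x.1)) x.2)

theorem tensor_ext {W : Over S} {m j : SimplexCategory} {T : Over S} {g g' : (tensorΔ W m).obj (op j) ⟶ T}
    (h : ∀ a : j ⟶ m, tensorι W a ≫ g = tensorι W a ≫ g') : g = g' := by
  ext ⟨a, w⟩
  exact ConcreteCategory.congr_hom (congrArg CommaMorphism.left (h a)) w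

theorem tensorι_desc {W : Over S} {m j : SimplexCategory} {T : Over S} (g : (j ⟶ m) → (W ⟶ T)) (a : j ⟶ m) :
    tensorι W a ≫ tensorDesc g = g a := by
  ext w
  rfl

theorem tensorι_map {W : Over S} {m j j' : SimplexCategory} (φ : j' ⟶ j) (a : j ⟶ m) :
    tensorι W a ≫ (tensorΔ W m).map φ.op = tensorι W (φ ≫ a) := by
  ext w
  rfl

theorem isUnivCohDescentMap_of_isIso {X Y : TopCat.{u}} (f : X ⟶ Y) [IsIso f] : FibDesc.IsUnivCohDescentMap f :=
  isUnivCohDescentMap_of_section f (inv f) (IsIso.inv_hom_id f)

include hlow in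
/-- A map which is an isomorphism below degree `N` and of universal descent in degree `N` is of universal descent. -/
theorem isUnivCohDescentMap_app (hN : ∀ j : SimplexCategory, j.len = N → FibDesc.IsUnivCohDescentMap (f.app (op j)).left)
    (hext : Extends N K'') (hdet : Determined N K') (m : SimplexCategory) :
    FibDesc.IsUnivCohDescentMap (f.app (op m)).left := by
  classical
  suffices h : ∀ l : List (SimplexCategory.mk N ⟶ m), ∃ (W : Over S) (p : W ⟶ K'.obj (op m)),
      FibDesc.IsUnivCohDescentMap p.left ∧ ∀ a ∈ l, ∃ u : W ⟶ K''.obj (op (SimplexCategory.mk N)),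
        u ≫ f.app (op (SimplexCategory.mk N)) = p ≫ K'.map a.op by
    haveI : Fintype (SimplexCategory.mk N ⟶ m) :=
      Fintype.ofInjective (fun a => ⇑a.toOrderHom) fun a b h => SimplexCategory.Hom.ext _ _ (OrderHom.ext _ _ h)
    obtain ⟨W, p, hp, ht⟩ := h (Finset.univ : Finset (SimplexCategory.mk N ⟶ m)).toList
    obtain ⟨P, hP, hPnat⟩ := exists_cone f hlow p fun j a _ hj => by
      obtain rfl : j = SimplexCategory.mk N := SimplexCategory.ext hj
      exact ht a (Finset.mem_toList.2 (Finset.mem_univ a))
    obtain ⟨G, hG⟩ := hext (tensorΔ W m) (fun j h => tensorDesc (P j h)) fun j j' h h' φ => tensor_ext fun a => by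
      rw [← Category.assoc, tensorι_map, tensorι_desc, hPnat j j' h h' φ a, ← Category.assoc, tensorι_desc]
    have hcan : ∀ (j j' : SimplexCategory) (φ : j' ⟶ j),
        (tensorΔ W m).map φ.op ≫ tensorDesc (fun a => p ≫ K'.map a.op) =
          tensorDesc (fun a => p ≫ K'.map a.op) ≫ K'.map φ.op := fun j j' φ => tensor_ext fun a => by
      rw [← Category.assoc, tensorι_map, tensorι_desc, ← Category.assoc, tensorι_desc, Category.assoc,
        ← Functor.map_comp, op_comp]
    let c : tensorΔ W m ⟶ K' :=
      { app := fun j => tensorDesc (j := j.unop) (fun a => p ≫ K'.map a.op)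
        naturality := fun j j' φ => hcan j.unop j'.unop φ.unop }
    have hGc : G ≫ f = c := hdet _ _ _ fun j hj => tensor_ext fun a => by
      rw [NatTrans.comp_app, hG j hj, ← Category.assoc, tensorι_desc, hP j hj a]
      exact (tensorι_desc (fun a => p ≫ K'.map a.op) a).symm
    have e : (tensorι W (𝟙 m) ≫ G.app (op m)) ≫ f.app (op m) = p := by
      rw [Category.assoc, ← NatTrans.comp_app, hGc]
      refine (tensorι_desc (fun a => p ≫ K'.map a.op) (𝟙 m)).trans ?_
      rw [op_id, K'.map_id, Category.comp_id]
    refine isUnivCohDescentMap_of_comp (tensorι W (𝟙 m) ≫ G.app (op m)).left (f.app (op m)).left ?_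
    rwa [← Over.comp_left, e]
  intro l
  induction l with
  | nil => exact ⟨_, 𝟙 (K'.obj (op m)), isUnivCohDescentMap_of_isIso _, fun a ha => absurd ha List.not_mem_nil⟩
  | cons a l ih =>
    obtain ⟨W, p, hp, hl⟩ := ih
    let g := (f.app (op (SimplexCategory.mk N))).left
    let q := (p ≫ K'.map a.op).left
    let fst : Over.mk (pullback.fst q g ≫ W.hom) ⟶ W := Over.homMk (pullback.fst q g) rfl
    have hfst : FibDesc.IsUnivCohDescentMap (pullback.fst q g) :=
      isUnivCohDescentMap_of_isPullback (IsPullback.of_hasPullback q g).flip (hN _ rfl)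
    refine ⟨_, fst ≫ p, ?_, fun b hb => ?_⟩
    · rw [Over.comp_left]
      exact isUnivCohDescentMap_comp _ _ hfst hp
    · rcases List.mem_cons.1 hb with rfl | hb
      · refine ⟨Over.homMk (pullback.snd q g) ?_, ?_⟩
        · show pullback.snd q g ≫ _ = pullback.fst q g ≫ W.hom
          rw [← Over.w (f.app (op (SimplexCategory.mk N))), ← Category.assoc, ← pullback.condition, Category.assoc,
            Over.w (p ≫ K'.map b.op)]
        · ext1
          exact pullback.condition.symm
      · obtain ⟨u, hu⟩ := hl b hb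
        exact ⟨fst ≫ u, by rw [Category.assoc, hu, Category.assoc]⟩

end Step

end Groth.Agent.FibDescHyper
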