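import Groth.Agent.FibDescLib.Reindex
import Groth.Agent.FibDescLib.Pull

/-!
Reindexing a family over the same base: direct and inverse images.
-/

set_option autoImplicit false
set_option backward.isDefEq.respectTransparency false
set_option backward.isDefEq.respectTransparency.types false
set_option backward.defeqAttrib.useBackward true
set_option linter.style.haveILetI false

universe u

open CategoryTheory CategoryTheory.Limits Opposite TopologicalSpace
open CategoryTheory.Pseudofunctor CategoryTheory.Pseudofunctor.CoGrothendieck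

namespace Groth.Agent.FibDescHyper

open FibDescLib

variable {D D' : Type} [SmallCategory D] [SmallCategory D'] (Z : (WithInitial D)ᵒᵖ ⥤ TopCat.{u}) (ψ : D' ⥤ D)

/-- The reindexed family over the same base. -/
abbrev reB : (WithInitial D')ᵒᵖ ⥤ TopCat.{u} :=
  reAug Z ψ (base Z) (fun k => θ Z (ψ.obj k)) (fun a => θ_comp Z (ψ.map a))

/-- The functor of total categories. -/
noncomputable abbrev ReB : Tot (reB Z ψ) ⥤ Tot Z :=
  Re Z ψ (base Z) (fun k => θ Z (ψ.obj k)) (fun a => θ_comp Z (ψ.map a))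

instance ReB_isCocontinuous : (ReB Z ψ).IsCocontinuous (totTop (reB Z ψ)) (totTop Z) :=
  Re_isCocontinuous Z ψ (base Z) (fun k => θ Z (ψ.obj k)) (fun a => θ_comp Z (ψ.map a))

instance ReB_isContinuous : (ReB Z ψ).IsContinuous (totTop (reB Z ψ)) (totTop Z) :=
  Re_isContinuous Z ψ (base Z) (fun k => θ Z (ψ.obj k)) (fun a => θ_comp Z (ψ.map a))

/-- Restriction. -/
noncomputable abbrev jRB : DS Z ⥤ DS (reB Z ψ) :=
  jR Z ψ (base Z) (fun k => θ Z (ψ.obj k)) (fun a => θ_comp Z (ψ.map a))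

instance jRB_additive : (jRB Z ψ).Additive :=
  jR_additive Z ψ (base Z) (fun k => θ Z (ψ.obj k)) (fun a => θ_comp Z (ψ.map a))

instance jRB_lex : PreservesFiniteLimits (jRB Z ψ) :=
  jR_lex Z ψ (base Z) (fun k => θ Z (ψ.obj k)) (fun a => θ_comp Z (ψ.map a))

instance jRB_rex : PreservesFiniteColimits (jRB Z ψ) :=
  jR_rex Z ψ (base Z) (fun k => θ Z (ψ.obj k)) (fun a => θ_comp Z (ψ.map a))

/-- Coextension. -/
noncomputable abbrev ranB : DS (reB Z ψ) ⥤ DS Z :=
  ranR Z ψ (base Z) (fun k => θ Z (ψ.obj k)) (fun a => θ_comp Z (ψ.map a))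

/-- Their adjunction. -/
noncomputable abbrev radj : jRB Z ψ ⊣ ranB Z ψ :=
  (ReB Z ψ).sheafAdjunctionCocontinuous AddCommGrpCat.{u} (totTop (reB Z ψ)) (totTop Z)

/-- The arrow over which a projection is read. -/
noncomputable abbrev gB (k : D') (U : Opens (base Z)) :
    (ReB Z ψ).obj (pob k ((Opens.map (θ (reB Z ψ) k)).obj U)) ⟶ pob (ψ.obj k) ((Opens.map (θ Z (ψ.obj k))).obj U) :=
  (ph (𝟙 _) (by rw [spMap_id]; exact le_rfl) :
    pob (ψ.obj k) ((Opens.map (θ Z (ψ.obj k))).obj U) ⟶ pob (ψ.obj k) ((Opens.map (θ Z (ψ.obj k))).obj U))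

variable {Z ψ}

theorem fromB_le {c : Tot (reB Z ψ)} {n : D} {U : Opens (base Z)}
    (g : (ReB Z ψ).obj c ⟶ pob n ((Opens.map (θ Z n)).obj U)) :
    fib c ≤ (Opens.map (spMap (reB Z ψ) (𝟙 c.base.unop))).obj ((Opens.map (θ (reB Z ψ) c.base.unop)).obj U) := by
  rw [spMap_id]
  intro y hy
  exact (congrArg (· ∈ U) (ConcreteCategory.congr_hom (θ_comp Z g.base.unop) y)).mp (hom_le g hy)

/-- The map from an object. -/
noncomputable abbrev fromB {c : Tot (reB Z ψ)} {n : D} {U : Opens (base Z)}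
    (g : (ReB Z ψ).obj c ⟶ pob n ((Opens.map (θ Z n)).obj U)) :
    c ⟶ pob c.base.unop ((Opens.map (θ (reB Z ψ) c.base.unop)).obj U) :=
  (ph (𝟙 _) (fromB_le g) : pob c.base.unop (fib c) ⟶ _)

theorem exists_ePushHom (M : DS (reB Z ψ)) (U : Opens (base Z)) :
    ∃ f : ((pushF Z).obj ((ranB Z ψ).obj M)).obj.obj (op U) ⟶ ((pushF (reB Z ψ)).obj M).obj.obj (op U),
      ∀ k, f ≫ pπ M (n := k) le_rfl = pπ ((ranB Z ψ).obj M) (n := ψ.obj k) le_rfl ≫ rπ (ReB Z ψ) M.obj (gB Z ψ k U) :=
  exists_plift (N := M) (U := U) (fun k => pπ ((ranB Z ψ).obj M) (n := ψ.obj k) (U := U) le_rfl ≫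
    rπ (ReB Z ψ) M.obj (gB Z ψ k U)) fun k k' a h => by
    have e : (ReB Z ψ).map (ph a h) ≫ gB Z ψ k U = gB Z ψ k' U ≫ phθ (ψ.map a) U := tot_hom_ext (by
      simp [Re]
      try exact (Category.comp_id _).trans (Category.id_comp _).symm)
    refine (congrArg (fun t => t ≫ _) (pπ_compat ((ranB Z ψ).obj M) (ψ.map a) U).symm).trans ?_
    refine (Category.assoc _ _ _).trans (Eq.trans ?_ (Category.assoc _ _ _).symm)
    refine congrArg (CategoryStruct.comp _) ?_
    exact (map_rπ (G := ReB Z ψ) _ (phθ (ψ.map a) U) (gB Z ψ k' U)).trans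
      ((congrArg (rπ (ReB Z ψ) M.obj) e.symm).trans (rπ_comp _ (ph a h) (gB Z ψ k U)))

theorem exists_ePushInv (M : DS (reB Z ψ)) (U : Opens (base Z)) :
    ∃ f : ((pushF (reB Z ψ)).obj M).obj.obj (op U) ⟶ ((pushF Z).obj ((ranB Z ψ).obj M)).obj.obj (op U),
      ∀ n c (g : (ReB Z ψ).obj c ⟶ pob n ((Opens.map (θ Z n)).obj U)),
        f ≫ pπ ((ranB Z ψ).obj M) (n := n) le_rfl ≫ rπ (ReB Z ψ) M.obj g =
          pπ M (n := c.base.unop) le_rfl ≫ M.obj.map (fromB g).op := by
  have hn : ∀ n, ∃ f : ((pushF (reB Z ψ)).obj M).obj.obj (op U) ⟶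
      ((ranB Z ψ).obj M).obj.obj (op (pob n ((Opens.map (θ Z n)).obj U))),
      ∀ (c : Tot (reB Z ψ)) (g : (ReB Z ψ).obj c ⟶ pob n ((Opens.map (θ Z n)).obj U)),
        f ≫ rπ (ReB Z ψ) M.obj g = pπ M (n := c.base.unop) le_rfl ≫ M.obj.map (fromB g).op :=
    fun n => exists_rlift (G := ReB Z ψ) (P := M.obj)
      (fun c g => pπ M (n := c.base.unop) le_rfl ≫ M.obj.map (fromB g).op) fun c c' h g => by
        show pπ M _ ≫ _ = (pπ M _ ≫ _) ≫ M.obj.map h.op
        rw [← pπ_compat M h.base.unop U, Category.assoc, Category.assoc, ← Functor.map_comp,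
          ← Functor.map_comp, ← op_comp, ← op_comp]
        congr 3
        exact tot_hom_ext (by simp)
  choose f hf using hn
  obtain ⟨F, hF⟩ := exists_plift (N := (ranB Z ψ).obj M) (U := U) f fun n m a h => by
    refine rπ_ext (G := ReB Z ψ) fun c g => ?_
    refine (hf m c g).trans (Eq.trans ?_ (Category.assoc _ _ _).symm)
    refine Eq.trans ?_ (congrArg (CategoryStruct.comp (f n)) (map_rπ (G := ReB Z ψ) _ (ph a h) g)).symm
    exact (hf n c _).symm
  exact ⟨F, fun n c g => ((Category.assoc _ _ _).symm.trans (congrArg (fun t => t ≫ _) (hF n))).trans (hf n c g)⟩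

/-- The components. -/
noncomputable def ePushApp (M : DS (reB Z ψ)) (U : Opens (base Z)) :
    ((pushF Z).obj ((ranB Z ψ).obj M)).obj.obj (op U) ≅ ((pushF (reB Z ψ)).obj M).obj.obj (op U) where
  hom := (exists_ePushHom M U).choose
  inv := (exists_ePushInv M U).choose
  hom_inv_id := pπ_ext fun n => rπ_ext (G := ReB Z ψ) fun c g => by
    erw [Category.assoc, Category.assoc, (exists_ePushInv M U).choose_spec n c g, ← Category.assoc,
      (exists_ePushHom M U).choose_spec, Category.id_comp]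
    have e1 : (ReB Z ψ).map (fromB g) ≫ gB Z ψ c.base.unop U ≫ phθ g.base.unop U = g := tot_hom_ext (by
      simp [Re])
    refine (Category.assoc _ _ _).trans ?_
    refine (congrArg (CategoryStruct.comp _) (rπ_comp _ (fromB g) (gB Z ψ c.base.unop U)).symm).trans ?_
    refine (congrArg (fun t => t ≫ _) (pπ_compat ((ranB Z ψ).obj M) g.base.unop U).symm).trans ?_
    refine (Category.assoc _ _ _).trans (congrArg (CategoryStruct.comp _) ?_)
    refine (map_rπ (G := ReB Z ψ) _ (phθ g.base.unop U) _).trans (congrArg _ ?_)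
    exact (Category.assoc _ _ _).trans e1
  inv_hom_id := pπ_ext fun k => by
    rw [Category.assoc, (exists_ePushHom M U).choose_spec,
      (exists_ePushInv M U).choose_spec (ψ.obj k) _ (gB Z ψ k U), Category.id_comp]
    have e : fromB (gB Z ψ k U) = 𝟙 _ := tot_hom_ext (by simp)
    rw [e]
    exact (congrArg (CategoryStruct.comp _) (M.obj.map_id _)).trans (Category.comp_id _)

theorem ePushApp_spec (M : DS (reB Z ψ)) (U : Opens (base Z)) (k : D') :
    (ePushApp M U).hom ≫ pπ M (n := k) le_rfl =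
      pπ ((ranB Z ψ).obj M) (n := ψ.obj k) le_rfl ≫ rπ (ReB Z ψ) M.obj (gB Z ψ k U) :=
  (exists_ePushHom M U).choose_spec k

variable (Z ψ)

/-- Direct images commute with coextension. -/
noncomputable def ePushIso : ranB Z ψ ⋙ pushF Z ≅ pushF (reB Z ψ) :=
  NatIso.ofComponents (fun M =>
    (fullyFaithfulSheafToPresheaf _ _).preimageIso (NatIso.ofComponents (fun U => ePushApp M U.unop) fun {U U'} i =>
      pπ_ext fun k => by
        have h : (Opens.map (θ (reB Z ψ) k)).obj U'.unop ≤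
            (Opens.map (spMap (reB Z ψ) (𝟙 k))).obj ((Opens.map (θ (reB Z ψ) k)).obj U.unop) := by
          rw [spMap_id]; exact ((Opens.map _).map i.unop).le
        have h' : (Opens.map (θ Z (ψ.obj k))).obj U'.unop ≤
            (Opens.map (spMap Z (𝟙 (ψ.obj k)))).obj ((Opens.map (θ Z (ψ.obj k))).obj U.unop) := by
          rw [spMap_id]; exact ((Opens.map _).map i.unop).le
        have e1 : (ReB Z ψ).map (ph (𝟙 k) h) ≫ gB Z ψ k U.unop = gB Z ψ k U'.unop ≫ ph (𝟙 _) h' :=
          tot_hom_ext (by simp [Re])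
        show (((pushF Z).obj ((ranB Z ψ).obj M)).obj.map i.unop.op ≫ (ePushApp M U'.unop).hom) ≫ _ =
          ((ePushApp M U.unop).hom ≫ ((pushF (reB Z ψ)).obj M).obj.map i.unop.op) ≫ _
        refine (Category.assoc _ _ _).trans ((congrArg (CategoryStruct.comp _) (ePushApp_spec M U'.unop k)).trans ?_)
        refine (Category.assoc _ _ _).symm.trans ((congrArg (fun t => t ≫ _) (map_pπ ((ranB Z ψ).obj M) i.unop h')).trans ?_)
        refine Eq.trans ?_ (Category.assoc _ _ _).symm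
        refine Eq.trans ?_ (congrArg (CategoryStruct.comp _) (map_pπ M i.unop h)).symm
        refine Eq.trans ?_ (Category.assoc _ _ _)
        refine Eq.trans ?_ (congrArg (fun t => t ≫ _) (ePushApp_spec M U.unop k)).symm
        refine (Category.assoc _ _ _).trans (Eq.trans ?_ (Category.assoc _ _ _).symm)
        refine congrArg (CategoryStruct.comp _) ?_
        exact (map_rπ (G := ReB Z ψ) _ (ph (𝟙 _) h') (gB Z ψ k U'.unop)).trans
          ((congrArg (rπ (ReB Z ψ) M.obj) e1.symm).trans (rπ_comp _ (ph (𝟙 k) h) (gB Z ψ k U.unop)))))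
    fun {M M'} f => by
      apply Sheaf.hom_ext
      apply NatTrans.ext
      funext U
      refine pπ_ext fun k => ?_
      show (((pushF Z).map ((ranB Z ψ).map f)).hom.app (op U.unop) ≫ (ePushApp M' U.unop).hom) ≫ _ =
        ((ePushApp M U.unop).hom ≫ ((pushF (reB Z ψ)).map f).hom.app (op U.unop)) ≫ _
      refine (Category.assoc _ _ _).trans ((congrArg (CategoryStruct.comp _) (ePushApp_spec M' U.unop k)).trans ?_)
      refine (Category.assoc _ _ _).symm.trans ((congrArg (fun t => t ≫ _) (pushMap_pπ ((ranB Z ψ).map f))).trans ?_)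
      refine Eq.trans ?_ (Category.assoc _ _ _).symm
      refine Eq.trans ?_ (congrArg (CategoryStruct.comp _) (pushMap_pπ f)).symm
      refine Eq.trans ?_ (Category.assoc _ _ _)
      refine Eq.trans ?_ (congrArg (fun t => t ≫ _) (ePushApp_spec M U.unop k)).symm
      refine (Category.assoc _ _ _).trans (Eq.trans ?_ (Category.assoc _ _ _).symm)
      exact congrArg (CategoryStruct.comp _) (ran_map_rπ f.hom (gB Z ψ k U.unop))

/-- Inverse images commute with restriction. -/
noncomputable def pullB : pullF Z ⋙ jRB Z ψ ≅ pullF (reB Z ψ) :=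
  (((padj (Y := Z)).comp (radj Z ψ)).ofNatIsoRight (ePushIso Z ψ)).leftAdjointUniq (padj (Y := reB Z ψ))

/-- The comparison of direct images. -/
noncomputable def νB (N : DS Z) : (pushF Z).obj N ⟶ (pushF (reB Z ψ)).obj ((jRB Z ψ).obj N) :=
  (pushF Z).map ((radj Z ψ).unit.app N) ≫ (ePushIso Z ψ).hom.app ((jRB Z ψ).obj N)

theorem νB_naturality {N N' : DS Z} (f : N ⟶ N') :
    (pushF Z).map f ≫ νB Z ψ N' = νB Z ψ N ≫ (pushF (reB Z ψ)).map ((jRB Z ψ).map f) := by
  unfold νB
  refine (Category.assoc _ _ _).symm.trans (Eq.trans ?_ (Category.assoc _ _ _).symm)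
  refine Eq.trans ?_ (congrArg (CategoryStruct.comp _) ((ePushIso Z ψ).hom.naturality ((jRB Z ψ).map f)))
  refine Eq.trans ?_ (Category.assoc _ _ _)
  refine congrArg (fun t => t ≫ _) ?_
  exact ((pushF Z).map_comp _ _).symm.trans ((congrArg (pushF Z).map ((radj Z ψ).unit.naturality f)).trans
    ((pushF Z).map_comp _ _))

theorem unit_νB (L : BS Z) :
    (padj (Y := Z)).unit.app L ≫ νB Z ψ ((pullF Z).obj L) ≫ (pushF (reB Z ψ)).map ((pullB Z ψ).hom.app L) =
      (padj (Y := reB Z ψ)).unit.app L := by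
  have h := Adjunction.unit_leftAdjointUniq_hom_app
    (((padj (Y := Z)).comp (radj Z ψ)).ofNatIsoRight (ePushIso Z ψ)) (padj (Y := reB Z ψ)) L
  refine Eq.trans ?_ h
  have u1 : (((padj (Y := Z)).comp (radj Z ψ)).ofNatIsoRight (ePushIso Z ψ)).unit.app L =
      ((padj (Y := Z)).comp (radj Z ψ)).unit.app L ≫ (ePushIso Z ψ).hom.app ((jRB Z ψ).obj ((pullF Z).obj L)) := by
    rw [← Adjunction.homEquiv_id, Adjunction.homEquiv_ofNatIsoRight_apply, Adjunction.homEquiv_id]
    rfl
  rw [u1, Adjunction.comp_unit_app]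
  unfold νB
  simp only [Category.assoc]
  rfl

theorem νB_pπ (N : DS Z) (U : Opens (base Z)) (k : D') :
    (νB Z ψ N).hom.app (op U) ≫ pπ ((jRB Z ψ).obj N) (n := k) le_rfl =
      (pπ N (n := ψ.obj k) le_rfl : _ ⟶ N.obj.obj (op (pob (ψ.obj k) ((Opens.map (θ Z (ψ.obj k))).obj U)))) := by
  show (((pushF Z).map ((radj Z ψ).unit.app N)).hom.app (op U) ≫ (ePushApp ((jRB Z ψ).obj N) U).hom) ≫ _ = _
  refine (Category.assoc _ _ _).trans ((congrArg (CategoryStruct.comp _) (ePushApp_spec _ U k)).trans ?_)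
  refine (Category.assoc _ _ _).symm.trans ((congrArg (fun t => t ≫ _) (pushMap_pπ ((radj Z ψ).unit.app N))).trans ?_)
  refine (Category.assoc _ _ _).trans ?_
  refine (congrArg (CategoryStruct.comp _) (?_ : _ = 𝟙 _)).trans (Category.comp_id _)
  refine Eq.trans ?_ (N.obj.map_id _)
  have hu : (radj Z ψ).homEquiv N ((jRB Z ψ).obj N) (𝟙 _) = (radj Z ψ).unit.app N := Adjunction.homEquiv_id _ _
  rw [← hu]
  refine (homEquiv_rπ (G := ReB Z ψ) (totTop (reB Z ψ)) (totTop Z) (𝟙 ((jRB Z ψ).obj N)) (gB Z ψ k U)).trans ?_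
  refine (Category.comp_id _).trans (congrArg N.obj.map ?_)
  exact Quiver.Hom.unop_inj (tot_hom_ext (by simp))

end Groth.Agent.FibDescHyper
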