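import Groth.Agent.FibDescHyper.Good
import Groth.Agent.FibDescHyper.ReindexPush
import Groth.Agent.FibDescLib.UnitCritGen
import Groth.Agent.SSExist.Hyper

/-!
The diagonal of a bisimplicial space of descent is of descent.
-/

set_option autoImplicit false
set_option backward.isDefEq.respectTransparency false
set_option backward.isDefEq.respectTransparency.types false
set_option backward.defeqAttrib.useBackward true
set_option linter.style.haveILetI false

universe u

open CategoryTheory CategoryTheory.Limits Opposite TopologicalSpace Simplicial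
open CategoryTheory.Pseudofunctor CategoryTheory.Pseudofunctor.CoGrothendieck

namespace Groth.Agent.FibDescHyper

open FibDescLib

attribute [local instance] HasDerivedCategory.standard

variable (Z : (WithInitial Bi)ᵒᵖ ⥤ TopCat.{u})

/-- The levels of a restriction. -/
noncomputable def lvDiagIso (N : DS Z) (n : SimplexCategory) :
    (lv (reB Z dg) n).obj ((jRB Z dg).obj N) ≅ (lv Z (dg.obj n)).obj N :=
  (fullyFaithfulSheafToPresheaf _ _).preimageIso (NatIso.ofComponents (fun _ => Iso.refl _) fun {U V} i => by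
    refine (Category.comp_id _).trans (Eq.trans ?_ (Category.id_comp _).symm)
    exact congrArg N.obj.map (Quiver.Hom.unop_inj (tot_hom_ext (by simp [Re]; rfl))))

/-- The sections of a restriction. -/
noncomputable def tsecDiagIso (N : DS Z) (U : Opens (base Z)) :
    (tsecU (reB Z dg) U).obj ((jRB Z dg).obj N) ≅ dg ⋙ (tsecU Z U).obj N :=
  NatIso.ofComponents (fun _ => Iso.refl _) fun {n m} a => by
    refine (Category.comp_id _).trans (Eq.trans ?_ (Category.id_comp _).symm)
    exact congrArg N.obj.map (Quiver.Hom.unop_inj (tot_hom_ext (by simp [topKU, Re])))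

theorem good_jR (N : DS Z) [Injective N] : Good (reB Z dg) ((jRB Z dg).obj N) := by
  refine ⟨fun n => ?_, fun U k x hx => ?_⟩
  · haveI := injective_lv Z (dg.obj n) N
    exact Injective.of_iso (lvDiagIso Z N n).symm inferInstance
  · haveI := injective_tsecU Z U N
    let φ := (SSExist.Cosimp.cxF AddCommGrpCat.{u}).map (tsecDiagIso Z N U).hom
    obtain ⟨y, hy⟩ := diag_exact ((tsecU Z U).obj N) k x ((ConcreteCategory.congr_hom (φ.comm (k + 1) (k + 1 + 1)) x).trans
      ((congrArg (φ.f (k + 1 + 1)) hx).trans (map_zero (φ.f (k + 1 + 1)).hom)))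
    exact ⟨y, (ConcreteCategory.congr_hom (φ.comm k (k + 1)) y).symm.trans hy⟩

theorem isIso_νB_diag (N : DS Z) : IsIso (νB Z dg N) := by
  have : ∀ U, IsIso ((νB Z dg N).hom.app U) := by
    rintro ⟨U⟩
    have hν : ∀ (a : ((pushF Z).obj N).obj.obj (op (show Opens (base Z) from U))) (k : SimplexCategory),
        pπ ((jRB Z dg).obj N) (n := k) (U := U) le_rfl ((νB Z dg N).hom.app (op U) a) =
          pπ N (n := dg.obj k) (U := U) le_rfl a := fun a k =>
      ConcreteCategory.congr_hom (νB_pπ Z dg N U k) a
    refine (ConcreteCategory.isIso_iff_bijective _).2 ⟨fun a b h => pπ_injective N U fun n => ?_, fun t => ?_⟩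
    · let e : dg.obj ⦋0⦌ ⟶ n := (vtx n.1 0, vtx n.2 0)
      refine (ConcreteCategory.congr_hom (pπ_compat N e U) a).symm.trans (Eq.trans ?_ (ConcreteCategory.congr_hom (pπ_compat N e U) b))
      refine congrArg (N.obj.map (phθ e U).op) ?_
      exact (hν a ⦋0⦌).symm.trans ((congrArg _ h).trans (hν b ⦋0⦌))
    · let G := (tsecU Z U).obj N
      let M := (jRB Z dg).obj N
      have hc : ∀ {k l : SimplexCategory} (a : k ⟶ l), G.map (dg.map a) (pπ M (n := k) (U := U) le_rfl t) =
          pπ M (n := l) (U := U) le_rfl t := fun {k l} a =>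
        (ConcreteCategory.congr_hom ((tsecDiagIso Z N U).hom.naturality a) _).symm.trans
          (ConcreteCategory.congr_hom (pπ_compat M a U) t)
      obtain ⟨v, hv, hv0⟩ := exists_family G (pπ M (n := ⦋0⦌) (U := U) le_rfl t)
        ((hc (SimplexCategory.δ (n := 0) 0)).trans (hc (SimplexCategory.δ (n := 0) 1)).symm)
      obtain ⟨s, hs⟩ := exists_pSection N U v (fun {n m} a => hv a)
      refine ⟨s, pπ_injective M U fun k => ?_⟩
      refine (hν s k).trans ((hs (dg.obj k)).trans ?_)
      exact ((hv (dg.map (SimplexCategory.const ⦋0⦌ k 0))).symm.trans (congrArg _ hv0)).trans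
        (hc (SimplexCategory.const ⦋0⦌ k 0))
  have : IsIso (νB Z dg N).hom := NatIso.isIso_of_isIso_app _
  have : IsIso ((sheafToPresheaf _ _).map (νB Z dg N)) := ‹IsIso (νB Z dg N).hom›
  exact isIso_of_reflects_iso _ (sheafToPresheaf _ _)

set_option maxHeartbeats 1000000 in
/-- The diagonal of a family of descent is of descent. -/
theorem isCohDescentTop_diag [HasSheafify (totTop Z) AddCommGrpCat.{u}] (h : FibDesc.IsCohDescentTop Z) :
    FibDesc.IsCohDescentTop (reB Z dg) := by
  refine ⟨inferInstance, inferInstance, inferInstance, inferInstance, inferInstance, inferInstance, ?_⟩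
  refine bijective_of_exists_resolution (padj (Y := reB Z dg)) fun L a _ _ => ?_
  obtain ⟨J, q, _, hJ, _⟩ :=
    exists_injective_resolution (((pullF Z).mapHomologicalComplex (ComplexShape.up ℤ)).obj L) a
  obtain ⟨_, _, _, _, _, hlex, hFF⟩ := h
  let c := ComplexShape.up ℤ
  let J₀ := ((jRB Z dg).mapHomologicalComplex c).obj J
  haveI : CochainComplex.IsStrictlyGE J₀ a :=
    inferInstanceAs (CochainComplex.IsStrictlyGE (((jRB Z dg).mapHomologicalComplex c).obj J) a)
  let cc : ((pullF (reB Z dg)).mapHomologicalComplex c).obj L ⟶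
      ((jRB Z dg).mapHomologicalComplex c).obj (((pullF Z).mapHomologicalComplex c).obj L) :=
    { f := fun i => (pullB Z dg).inv.app (L.X i)
      comm' := fun i j _ => ((pullB Z dg).inv.naturality (L.d i j)).symm }
  have : ∀ i, IsIso (cc.f i) := fun i => inferInstanceAs (IsIso ((pullB Z dg).inv.app (L.X i)))
  have : IsIso cc := HomologicalComplex.Hom.isIso_of_components cc
  let q₀ : ((pullF (reB Z dg)).mapHomologicalComplex c).obj L ⟶ J₀ := cc ≫ ((jRB Z dg).mapHomologicalComplex c).map q
  have : QuasiIso (((jRB Z dg).mapHomologicalComplex c).map q) := inferInstance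
  have : QuasiIso q₀ := inferInstanceAs (QuasiIso (cc ≫ ((jRB Z dg).mapHomologicalComplex c).map q))
  obtain ⟨I, r, _, hI, _⟩ := exists_injective_resolution J₀ a
  refine ⟨I, q₀ ≫ r, ‹_›, hI, inferInstance, ?_⟩
  haveI : PreservesFiniteLimits (pushF (reB Z dg)) := by
    have := (padj (Y := reB Z dg)).rightAdjoint_preservesLimits
    infer_instance
  haveI hr : QuasiIso (((pushF (reB Z dg)).mapHomologicalComplex c).map r) :=
    (HomotopyCategory.quotient_map_mem_quasiIso_iff _).1
      (TriH.quasiIso_map_of_acyclic (pushF (reB Z dg)) r a a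
        (fun n => isAcyclicObj_of_good _ (good_jR Z (J.X n)))
        (fun n => TriH.isAcyclicObj_of_injective (pushF (reB Z dg)) (I.X n)))
  haveI hq : QuasiIso (cxTranspose (padj (Y := Z)) q) := quasiIso_transpose_gen (padj (Y := Z)) hFF a q
  let νc : ((pushF Z).mapHomologicalComplex c).obj J ⟶ ((pushF (reB Z dg)).mapHomologicalComplex c).obj J₀ :=
    { f := fun i => νB Z dg (J.X i)
      comm' := fun i j _ => (νB_naturality Z dg (J.d i j)).symm }
  have : ∀ i, IsIso (νc.f i) := fun i => isIso_νB_diag Z (J.X i)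
  have : IsIso νc := HomologicalComplex.Hom.isIso_of_components νc
  have e : cxTranspose (padj (Y := reB Z dg)) (q₀ ≫ r) =
      cxTranspose (padj (Y := Z)) q ≫ νc ≫ ((pushF (reB Z dg)).mapHomologicalComplex c).map r := by
    apply HomologicalComplex.hom_ext
    intro i
    show (padj (Y := reB Z dg)).unit.app (L.X i) ≫
        (pushF (reB Z dg)).map (((pullB Z dg).inv.app (L.X i) ≫ (jRB Z dg).map (q.f i)) ≫ r.f i) =
      ((padj (Y := Z)).unit.app (L.X i) ≫ (pushF Z).map (q.f i)) ≫ νB Z dg (J.X i) ≫ (pushF (reB Z dg)).map (r.f i)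
    rw [← unit_νB Z dg (L.X i)]
    simp only [Category.assoc]
    refine congrArg (CategoryStruct.comp _) ?_
    refine Eq.trans ?_ ((congrArg (fun t => t ≫ (pushF (reB Z dg)).map (r.f i)) (νB_naturality Z dg (q.f i))).symm.trans
      (Category.assoc _ _ _))
    refine Eq.trans ?_ (Category.assoc _ _ _).symm
    refine congrArg (CategoryStruct.comp _) ?_
    refine ((pushF (reB Z dg)).map_comp _ _).symm.trans (Eq.trans ?_ ((pushF (reB Z dg)).map_comp _ _))
    refine congrArg (pushF (reB Z dg)).map ?_
    exact (Category.assoc _ _ _).symm.trans ((congrArg (fun t => t ≫ _) ((pullB Z dg).hom_inv_id_app (L.X i))).trans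
      (Category.id_comp _))
  rw [e]
  infer_instance

end Groth.Agent.FibDescHyper
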