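import Groth.Agent.SSExist.Cosimplicial
import Mathlib.Algebra.Category.Grp.Abelian
import Mathlib.CategoryTheory.Products.Basic

/-!
The diagonal of an injective bicosimplicial abelian group is exact in positive degrees (by an explicit cone on a product
of simplices); its degree zero cycles are the compatible families.
-/

set_option autoImplicit false
set_option backward.isDefEq.respectTransparency false
set_option backward.isDefEq.respectTransparency.types false
set_option linter.style.haveILetI false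

universe u

open CategoryTheory CategoryTheory.Limits AlgebraicTopology Simplicial

namespace Groth.Agent.FibDescHyper

/-- The bisimplex category. -/
abbrev Bi : Type := SimplexCategory × SimplexCategory

/-- The diagonal. -/
abbrev dg : SimplexCategory ⥤ Bi := Functor.diag SimplexCategory

/-- The complex of a cosimplicial group. -/
noncomputable abbrev cx (G : SimplexCategory ⥤ AddCommGrpCat.{u}) : CochainComplex AddCommGrpCat.{u} ℕ :=
  (SSExist.Cosimp.cxF AddCommGrpCat.{u}).obj G

theorem cx_d_apply (G : SimplexCategory ⥤ AddCommGrpCat.{u}) (k : ℕ) (x : G.obj ⦋k⦌) :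
    (cx G).d k (k + 1) x = ∑ i : Fin (k + 2), (-1 : ℤ) ^ (i : ℕ) • G.map (SimplexCategory.δ i) x := by
  refine (ConcreteCategory.congr_hom
    (CochainComplex.of_d (fun k => G.obj ⦋k⦌) (AlternatingCofaceMapComplex.objD G) k) x).trans ?_
  refine (map_sum (AddMonoidHom.mk' (fun φ : G.obj ⦋k⦌ ⟶ G.obj ⦋k + 1⦌ => φ x) fun _ _ => rfl) _ _).trans ?_
  exact Finset.sum_congr rfl fun i _ => rfl

/-- The cone on a simplex with vertex `0`. -/
def coneHom {k : ℕ} {a : SimplexCategory} (p : ⦋k⦌ ⟶ a) : ⦋k + 1⦌ ⟶ a :=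
  SimplexCategory.mkHom
    { toFun := Fin.cons 0 p.toOrderHom
      monotone' := fun i j hij => by
        induction i using Fin.cases with
        | zero => simp
        | succ i =>
          induction j using Fin.cases with
          | zero => exact absurd hij (by simp)
          | succ j => simpa using p.toOrderHom.monotone (Fin.succ_le_succ_iff.1 hij) }

theorem δ_zero_coneHom {k : ℕ} {a : SimplexCategory} (p : ⦋k⦌ ⟶ a) :
    SimplexCategory.δ (0 : Fin (k + 2)) ≫ coneHom p = p := by
  ext i : 3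
  simp [coneHom, SimplexCategory.δ]

theorem δ_succ_coneHom {k : ℕ} {a : SimplexCategory} (p : ⦋k + 1⦌ ⟶ a) (i : Fin (k + 2)) :
    SimplexCategory.δ i.succ ≫ coneHom p = coneHom (SimplexCategory.δ i ≫ p) := by
  ext j : 3
  induction j using Fin.cases with
  | zero => simp [coneHom, SimplexCategory.δ]
  | succ j => simp [coneHom, SimplexCategory.δ]

variable (G : Bi ⥤ AddCommGrpCat.{u})

/-- The product of the coextensions of the values. -/
def big : Bi ⥤ AddCommGrpCat.{u} where
  obj n := AddCommGrpCat.of (∀ a b : SimplexCategory, (n.1 ⟶ a) → (n.2 ⟶ b) → G.obj (a, b))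
  map {n m} φ := AddCommGrpCat.ofHom (AddMonoidHom.mk' (fun f a b p q => f a b (φ.1 ≫ p) (φ.2 ≫ q))
    fun _ _ => rfl)
  map_id n := by
    ext f
    simp
  map_comp φ ψ := by
    ext f
    simp

/-- The unit. -/
def toBig : G ⟶ big G where
  app n := AddCommGrpCat.ofHom (AddMonoidHom.mk' (fun g a b p q => G.map ((p, q) : n ⟶ (a, b)) g)
    fun x y => by funext a b p q; exact map_add _ _ _)
  naturality n m φ := by
    ext g
    funext a b p q
    exact (ConcreteCategory.congr_hom (G.map_comp φ ((p, q) : m ⟶ (a, b))) g).symm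

instance mono_toBig : Mono (toBig G) := by
  haveI : ∀ n, Mono ((toBig G).app n) := fun n => (AddCommGrpCat.mono_iff_injective _).2 fun x y h => by
    have := congrFun (congrFun (congrFun (congrFun h n.1) n.2) (𝟙 _)) (𝟙 _)
    exact (ConcreteCategory.congr_hom (G.map_id n) x).symm.trans
      (Eq.trans this (ConcreteCategory.congr_hom (G.map_id n) y))
  exact NatTrans.mono_of_mono_app _

theorem exists_big_preimage (k : ℕ) (f : (big G).obj (dg.obj ⦋k + 1⦌))
    (h : (cx (dg ⋙ big G)).d (k + 1) (k + 1 + 1) f = 0) :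
    ∃ g : (big G).obj (dg.obj ⦋k⦌), (cx (dg ⋙ big G)).d k (k + 1) g = f := by
  refine ⟨fun a b p q => f a b (coneHom p) (coneHom q), ?_⟩
  rw [cx_d_apply]
  funext a b p q
  let ev : ∀ {n : Bi} (a b : SimplexCategory) (p : n.1 ⟶ a) (q : n.2 ⟶ b), (big G).obj n →+ G.obj (a, b) :=
    fun a b p q => AddMonoidHom.mk' (fun f => f a b p q) fun _ _ => rfl
  have h' := congrArg (ev (n := dg.obj ⦋k + 1 + 1⦌) a b (coneHom p) (coneHom q))
    ((cx_d_apply (dg ⋙ big G) (k + 1) f).symm.trans h)
  rw [map_zero, map_sum] at h'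
  simp only [map_zsmul] at h'
  show ev (n := dg.obj ⦋k + 1⦌) a b p q (∑ i : Fin (k + 2), (-1 : ℤ) ^ (i : ℕ) •
    (dg ⋙ big G).map (SimplexCategory.δ i) (fun a b p q => f a b (coneHom p) (coneHom q))) = _
  rw [map_sum]
  simp only [map_zsmul]
  change (∑ i : Fin (k + 1 + 2), (-1 : ℤ) ^ (i : ℕ) •
    f a b (SimplexCategory.δ i ≫ coneHom p) (SimplexCategory.δ i ≫ coneHom q)) = 0 at h'
  show (∑ i : Fin (k + 2), (-1 : ℤ) ^ (i : ℕ) •
    f a b (coneHom (SimplexCategory.δ i ≫ p)) (coneHom (SimplexCategory.δ i ≫ q))) = f a b p q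
  rw [Fin.sum_univ_succ, δ_zero_coneHom, δ_zero_coneHom] at h'
  simp only [δ_succ_coneHom, Fin.val_succ, pow_succ, Fin.val_zero, pow_zero, one_smul, mul_neg, mul_one,
    neg_smul, Finset.sum_neg_distrib] at h'
  exact (eq_of_sub_eq_zero ((sub_eq_add_neg _ _).trans h')).symm

/-- The diagonal of an injective bicosimplicial group is exact in positive degrees. -/
theorem diag_exact [Injective G] (k : ℕ) (x : G.obj (dg.obj ⦋k + 1⦌))
    (h : (cx (dg ⋙ G)).d (k + 1) (k + 1 + 1) x = 0) :
    ∃ y : G.obj (dg.obj ⦋k⦌), (cx (dg ⋙ G)).d k (k + 1) y = x := by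
  let ι := (SSExist.Cosimp.cxF AddCommGrpCat.{u}).map (Functor.whiskerLeft dg (toBig G))
  let r := Injective.factorThru (𝟙 G) (toBig G)
  let ρ := (SSExist.Cosimp.cxF AddCommGrpCat.{u}).map (Functor.whiskerLeft dg r)
  obtain ⟨g, hg⟩ := exists_big_preimage G k ((toBig G).app _ x)
    ((ConcreteCategory.congr_hom (ι.comm (k + 1) (k + 1 + 1)) x).trans ((congrArg (ι.f (k + 1 + 1)) h).trans (map_zero (ι.f (k + 1 + 1)).hom)))
  refine ⟨r.app _ g, (ConcreteCategory.congr_hom (ρ.comm k (k + 1)) g).trans ((congrArg _ hg).trans ?_)⟩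
  exact ConcreteCategory.congr_hom (congr_app (Injective.comp_factorThru (𝟙 G) (toBig G)) _) x

/-- A vertex. -/
abbrev vtx (n : SimplexCategory) (i : Fin (n.len + 1)) : ⦋0⦌ ⟶ n := SimplexCategory.const ⦋0⦌ n i

theorem exists_edge (n : SimplexCategory) (i : Fin (n.len + 1)) :
    ∃ e : ⦋1⦌ ⟶ n, SimplexCategory.δ (n := 0) 1 ≫ e = vtx n 0 ∧ SimplexCategory.δ (n := 0) 0 ≫ e = vtx n i :=
  ⟨SimplexCategory.mkHom
    { toFun := ![0, i]
      monotone' := fun a b hab => by fin_cases a <;> fin_cases b <;> simp_all },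
    by ext a : 3; fin_cases a; rfl, by ext a : 3; fin_cases a; rfl⟩

/-- A degree zero cycle of the diagonal gives a compatible family. -/
theorem exists_family (x : G.obj (dg.obj ⦋0⦌))
    (h : G.map (dg.map (SimplexCategory.δ (n := 0) 0)) x = G.map (dg.map (SimplexCategory.δ (n := 0) 1)) x) :
    ∃ s : ∀ n : Bi, G.obj n, (∀ {n m : Bi} (φ : n ⟶ m), G.map φ (s n) = s m) ∧ s (dg.obj ⦋0⦌) = x := by
  have key : ∀ (n : Bi) (i : Fin (n.1.len + 1)) (j : Fin (n.2.len + 1)),
      G.map ((vtx n.1 i, vtx n.2 j) : dg.obj ⦋0⦌ ⟶ n) x = G.map ((vtx n.1 0, vtx n.2 0) : dg.obj ⦋0⦌ ⟶ n) x := by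
    intro n i j
    obtain ⟨e, he1, he0⟩ := exists_edge n.1 i
    obtain ⟨e', he1', he0'⟩ := exists_edge n.2 j
    have h' := congrArg (G.map ((e, e') : dg.obj ⦋1⦌ ⟶ n)) h
    refine Eq.trans ?_ (h'.trans ?_)
    · refine Eq.trans ?_ (ConcreteCategory.congr_hom (G.map_comp _ _) x)
      exact congrArg (fun t => G.map t x) (Prod.ext he0 he0').symm
    · refine (ConcreteCategory.congr_hom (G.map_comp _ _) x).symm.trans ?_
      exact congrArg (fun t => G.map t x) (Prod.ext he1 he1')
  refine ⟨fun n => G.map ((vtx n.1 0, vtx n.2 0) : dg.obj ⦋0⦌ ⟶ n) x, fun {n m} φ => ?_, ?_⟩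
  · refine (ConcreteCategory.congr_hom (G.map_comp _ _) x).symm.trans ?_
    refine Eq.trans ?_ (key m (φ.1.toOrderHom 0) (φ.2.toOrderHom 0))
    exact congrArg (fun t => G.map t x) (Prod.ext (SimplexCategory.const_comp _ _ _) (SimplexCategory.const_comp _ _ _))
  · refine Eq.trans (congrArg (fun t => G.map t x) ?_) (ConcreteCategory.congr_hom (G.map_id _) x)
    exact Prod.ext (SimplexCategory.const_eq_id) (SimplexCategory.const_eq_id)

end Groth.Agent.FibDescHyper
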