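import Groth.Agent.FibDescHyper.DiagExact
import Groth.Agent.FibDescSS.Basic
import Groth.Agent.FibDescLib.SecInjective
import Groth.Agent.TriH.Adapted

/-!
Families of abelian sheaves with injective levels and exact complexes of sections are acyclic for the direct image.
-/

set_option autoImplicit false
set_option backward.isDefEq.respectTransparency false
set_option backward.isDefEq.respectTransparency.types false
set_option backward.defeqAttrib.useBackward true
set_option linter.style.haveILetI false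

universe u

open CategoryTheory CategoryTheory.Limits Opposite TopologicalSpace Simplicial
open CategoryTheory.Pseudofunctor CategoryTheory.Pseudofunctor.CoGrothendieck

namespace Groth.Agent.FibDescHyper

open FibDescLib

variable {D : Type} [SmallCategory D] {Y₀ : (WithInitial D)ᵒᵖ ⥤ TopCat.{u}}

theorem pπ_injective (N : DS Y₀) (U : Opens (base Y₀)) {a b : ((pushF Y₀).obj N).obj.obj (op U)}
    (h : ∀ n, pπ N (n := n) (U := U) le_rfl a = pπ N (n := n) (U := U) le_rfl b) : a = b := by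
  let z : ∀ t : ((pushF Y₀).obj N).obj.obj (op U), AddCommGrpCat.of (ULift.{u} ℤ) ⟶ ((pushF Y₀).obj N).obj.obj (op U) :=
    fun t => AddCommGrpCat.ofHom ((zmultiplesHom _ t).comp AddEquiv.ulift.toAddMonoidHom)
  have hz : ∀ t, z t ⟨1⟩ = t := fun t => one_zsmul t
  have e : z a = z b := pπ_ext fun n => AddCommGrpCat.hom_ext (AddMonoidHom.ext fun x => by
    show pπ N (n := n) (U := U) le_rfl (x.down • a) = pπ N (n := n) (U := U) le_rfl (x.down • b)
    rw [map_zsmul, map_zsmul, h n])
  rw [← hz a, ← hz b, e]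

theorem exists_pSection (N : DS Y₀) (U : Opens (base Y₀))
    (v : ∀ n, N.obj.obj (op (pob n ((Opens.map (θ Y₀ n)).obj U))))
    (hv : ∀ {n m : D} (a : n ⟶ m), N.obj.map (phθ a U).op (v n) = v m) :
    ∃ t : ((pushF Y₀).obj N).obj.obj (op U), ∀ n, pπ N (n := n) (U := U) le_rfl t = v n := by
  obtain ⟨f, hf⟩ := exists_plift (N := N) (U := U) (Z := AddCommGrpCat.of (ULift.{u} ℤ))
    (fun n => AddCommGrpCat.ofHom ((zmultiplesHom _ (v n)).comp AddEquiv.ulift.toAddMonoidHom)) fun n m a h => by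
    refine AddCommGrpCat.hom_ext (AddMonoidHom.ext fun x => ?_)
    show x.down • v m = N.obj.map (ph a h).op (x.down • v n)
    rw [map_zsmul]
    exact congrArg (x.down • ·) (hv a).symm
  exact ⟨f ⟨1⟩, fun n => (ConcreteCategory.congr_hom (hf n) ⟨1⟩).trans (one_zsmul (v n))⟩

variable (Y : (WithInitial SimplexCategory)ᵒᵖ ⥤ TopCat.{u})

/-- Injective levels and exact complexes of sections. -/
def Good : ObjectProperty (DS Y) := fun M =>
  (∀ n, Injective ((lv Y n).obj M)) ∧
    ∀ (U : Opens (base Y)) (k : ℕ) (x : ((tsecU Y U).obj M).obj ⦋k + 1⦌),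
      (cx ((tsecU Y U).obj M)).d (k + 1) (k + 1 + 1) x = 0 →
        ∃ y : ((tsecU Y U).obj M).obj ⦋k⦌, (cx ((tsecU Y U).obj M)).d k (k + 1) y = x

theorem exact_of_injective (G : SimplexCategory ⥤ AddCommGrpCat.{u}) [Injective G] (k : ℕ) (x : G.obj ⦋k + 1⦌)
    (hx : (cx G).d (k + 1) (k + 1 + 1) x = 0) : ∃ y : G.obj ⦋k⦌, (cx G).d k (k + 1) y = x := by
  haveI : EnoughInjectives (SimplexCategory ⥤ AddCommGrpCat.{u}) := enoughInjectives_cosimplicial
  have h : (cx G).ExactAt (k + 1) :=
    (HomologicalComplex.exactAt_iff_isZero_homology _ _).2 (SSExist.Cosimp.isEffaceable.injective G inferInstance k)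
  rw [HomologicalComplex.exactAt_iff' _ k (k + 1) (k + 1 + 1) (by simp) (by simp), ShortComplex.ab_exact_iff] at h
  exact h x hx

theorem good_of_injective (N : DS Y) [Injective N] : Good Y N :=
  ⟨fun n => injective_lv Y n N, fun U k x hx => by
    haveI := injective_tsecU Y U N
    exact exact_of_injective ((tsecU Y U).obj N) k x hx⟩

variable {Y}

theorem good_right {S : ShortComplex (DS Y)} (hS : S.ShortExact) (h₁ : Good Y S.X₁) (h₂ : Good Y S.X₂) :
    Good Y S.X₃ ∧ (S.map (pushF Y)).ShortExact := by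
  have hlv : ∀ n, (S.map (lv Y n)).ShortExact := fun n => hS.map_of_exact (lv Y n)
  let sp' : ∀ n, (S.map (lv Y n)).Splitting := fun n =>
    haveI : Injective (S.map (lv Y n)).X₁ := h₁.1 n
    (hlv n).splittingOfInjective
  have surj : ∀ (n : SimplexCategory) (V : Opens (sp Y n)) (y : S.X₃.obj.obj (op (pob n V))),
      ∃ x : S.X₂.obj.obj (op (pob n V)), S.g.hom.app _ x = y := fun n V y =>
    ⟨((sp' n).s.hom.app (op V)) y,
      ConcreteCategory.congr_hom (congr_app (congrArg (fun φ => φ.hom) (sp' n).s_g) (op V)) y⟩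
  have ker : ∀ (n : SimplexCategory) (V : Opens (sp Y n)) (x : S.X₂.obj.obj (op (pob n V))),
      S.g.hom.app _ x = 0 → ∃ m : S.X₁.obj.obj (op (pob n V)), S.f.hom.app _ m = x := fun n V x hx => by
    let rr : S.X₂.obj.obj (op (pob n V)) →+ S.X₁.obj.obj (op (pob n V)) := ((sp' n).r.hom.app (op V)).hom
    let ss : S.X₃.obj.obj (op (pob n V)) →+ S.X₂.obj.obj (op (pob n V)) := ((sp' n).s.hom.app (op V)).hom
    refine ⟨rr x, ?_⟩
    have h : S.f.hom.app _ (rr x) + ss (S.g.hom.app _ x) = x :=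
      ConcreteCategory.congr_hom (congr_app (congrArg (fun φ => φ.hom) (sp' n).id) (op V)) x
    rw [hx, map_zero, add_zero] at h
    exact h
  have inj : ∀ (n : SimplexCategory) (V : Opens (sp Y n)), Function.Injective (S.f.hom.app (op (pob n V))) :=
    fun n V a b hab => by
      have h := fun t => ConcreteCategory.congr_hom (congr_app (congrArg (fun φ => φ.hom) (sp' n).f_r) (op V)) t
      exact (h a).symm.trans ((congrArg ((sp' n).r.hom.app (op V)) hab).trans (h b))
  let C := SSExist.Cosimp.cxF AddCommGrpCat.{u}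
  have lift : ∀ (U : Opens (base Y)) (k : ℕ) (x' : ((tsecU Y U).obj S.X₂).obj ⦋k⦌),
      (cx ((tsecU Y U).obj S.X₃)).d k (k + 1) (S.g.hom.app _ x') = 0 →
      ∃ x'' : ((tsecU Y U).obj S.X₂).obj ⦋k⦌,
        (cx ((tsecU Y U).obj S.X₂)).d k (k + 1) x'' = 0 ∧ S.g.hom.app _ x'' = S.g.hom.app _ x' := by
    intro U k x' hx'
    obtain ⟨m, hm⟩ := ker ⦋k + 1⦌ _ ((cx ((tsecU Y U).obj S.X₂)).d k (k + 1) x')
      ((ConcreteCategory.congr_hom ((C.map ((tsecU Y U).map S.g)).comm k (k + 1)) x').symm.trans hx')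
    have hm0 : (cx ((tsecU Y U).obj S.X₁)).d (k + 1) (k + 1 + 1) m = 0 := inj _ _ (by
      refine (ConcreteCategory.congr_hom ((C.map ((tsecU Y U).map S.f)).comm (k + 1) (k + 1 + 1)) m).symm.trans ?_
      refine (congrArg ((cx ((tsecU Y U).obj S.X₂)).d (k + 1) (k + 1 + 1)) hm).trans ?_
      exact (ConcreteCategory.congr_hom ((cx ((tsecU Y U).obj S.X₂)).d_comp_d k (k + 1) (k + 1 + 1)) x').trans
        (map_zero (S.f.hom.app (op (pob ⦋k + 1 + 1⦌ _))).hom).symm)
    obtain ⟨m', hm'⟩ := h₁.2 U k m hm0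
    refine ⟨x' - (show ((tsecU Y U).obj S.X₂).obj ⦋k⦌ from S.f.hom.app _ m'), ?_, ?_⟩
    · refine (map_sub ((cx ((tsecU Y U).obj S.X₂)).d k (k + 1)).hom _ _).trans (sub_eq_zero.2 ?_)
      refine hm.symm.trans ((congrArg (S.f.hom.app _) hm'.symm).trans ?_)
      exact (ConcreteCategory.congr_hom ((C.map ((tsecU Y U).map S.f)).comm k (k + 1)) m').symm
    · refine (map_sub (S.g.hom.app _).hom _ _).trans ?_
      have h0 : S.g.hom.app _ (S.f.hom.app _ m') = 0 :=
        ConcreteCategory.congr_hom (congr_app (congrArg (fun (φ : S.X₁ ⟶ S.X₃) => φ.hom) S.zero) ((topKU Y U).obj ⦋k⦌)) m'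
      exact (congrArg (fun t => _ - t) h0).trans (sub_zero _)
  refine ⟨⟨fun n => ?_, fun U k x hx => ?_⟩, ?_⟩
  · haveI : Injective (S.map (lv Y n)).X₂ := h₂.1 n
    refine ⟨fun {A B} f m _ => ?_⟩
    refine ⟨Injective.factorThru (f ≫ (sp' n).s) m ≫ (S.map (lv Y n)).g, ?_⟩
    rw [← Category.assoc, Injective.comp_factorThru, Category.assoc, (sp' n).s_g]
    exact Category.comp_id f
  · obtain ⟨x', rfl⟩ := surj _ _ x
    obtain ⟨x'', hd, hg⟩ := lift U (k + 1) x' hx
    obtain ⟨z, hz⟩ := h₂.2 U k x'' hd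
    refine ⟨S.g.hom.app _ z, (ConcreteCategory.congr_hom ((C.map ((tsecU Y U).map S.g)).comm k (k + 1)) z).trans ?_⟩
    exact (congrArg (S.g.hom.app _) hz).trans hg
  · haveI : PreservesFiniteLimits (pushF Y) := by
      have := (padj (Y := Y)).rightAdjoint_preservesLimits
      infer_instance
    haveI : Epi ((pushF Y).map S.g) := by
      haveI : ∀ U, Epi (((pushF Y).map S.g).hom.app U) := fun U => by
        refine (AddCommGrpCat.epi_iff_surjective _).2 fun s => ?_
        obtain ⟨U⟩ := U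
        let G := (tsecU Y (show Opens (base Y) from U)).obj S.X₂
        obtain ⟨x', hx'⟩ := surj ⦋0⦌ _ (pπ S.X₃ (n := ⦋0⦌) (U := U) le_rfl s)
        have h0 : (cx ((tsecU Y U).obj S.X₃)).d 0 1 (S.g.hom.app _ x') = 0 := by
          refine (congrArg _ hx').trans ?_
          refine (ConcreteCategory.congr_hom (SSExist.Cosimp.d_zero_one ((tsecU Y U).obj S.X₃)) _).trans
            (sub_eq_zero.2 ?_)
          exact (ConcreteCategory.congr_hom (pπ_compat S.X₃ (SimplexCategory.δ (n := 0) 0) U) s).trans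
            (ConcreteCategory.congr_hom (pπ_compat S.X₃ (SimplexCategory.δ (n := 0) 1) U) s).symm
        obtain ⟨x'', hd, hg⟩ := lift U 0 x' h0
        obtain ⟨v, hv, hv0⟩ := exists_family (CategoryTheory.Prod.fst SimplexCategory SimplexCategory ⋙ G) x''
          (sub_eq_zero.1 ((ConcreteCategory.congr_hom (SSExist.Cosimp.d_zero_one G) x'').symm.trans hd))
        obtain ⟨t, ht⟩ := exists_pSection S.X₂ U (fun n => v (n, ⦋0⦌))
          (fun {n m} a => hv ((a, 𝟙 _) : (n, ⦋0⦌) ⟶ (m, ⦋0⦌)))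
        refine ⟨t, pπ_injective S.X₃ U fun n => ?_⟩
        have key : ∀ n, pπ S.X₃ (n := n) (U := U) le_rfl (((pushF Y).map S.g).hom.app (op U) t) =
            S.g.hom.app _ (v (n, ⦋0⦌)) := fun n =>
          (ConcreteCategory.congr_hom (pushMap_pπ S.g) t).trans (congrArg (S.g.hom.app _) (ht n))
        have e0 : pπ S.X₃ (n := ⦋0⦌) (U := U) le_rfl (((pushF Y).map S.g).hom.app (op U) t) =
            pπ S.X₃ (n := ⦋0⦌) (U := U) le_rfl s :=
          (key ⦋0⦌).trans ((congrArg (S.g.hom.app _) hv0).trans (hg.trans hx'))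
        let a : ⦋0⦌ ⟶ n := SimplexCategory.const ⦋0⦌ n 0
        exact (ConcreteCategory.congr_hom (pπ_compat S.X₃ a U) _).symm.trans
          ((congrArg _ e0).trans (ConcreteCategory.congr_hom (pπ_compat S.X₃ a U) s))
      haveI : Epi ((pushF Y).map S.g).hom := NatTrans.epi_of_epi_app _
      exact (sheafToPresheaf _ _).epi_of_epi_map ‹Epi ((pushF Y).map S.g).hom›
    haveI := hS.mono_f
    exact
      { exact := hS.exact.map_of_mono_of_preservesKernel (pushF Y) inferInstance inferInstance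
        mono_f := inferInstanceAs (Mono ((pushF Y).map S.f))
        epi_g := ‹Epi ((pushF Y).map S.g)› }

theorem isAcyclicObj_of_good (M : DS Y) (hM : Good Y M) : TriH.IsAcyclicObj (pushF Y) M := by
  haveI : HasInjectiveResolutions (DS Y) := inferInstance
  exact TriH.isAcyclicObj_of_adapted (pushF Y) (Good Y)
    (fun X => ⟨Injective.under X, Injective.ι X, good_of_injective Y _, inferInstance⟩)
    (fun _ hS h₁ h₂ => good_right hS h₁ h₂) M hM

end Groth.Agent.FibDescHyper
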