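import Groth.Agent.FibDescHyper.Good
import Mathlib.Algebra.Homology.DerivedCategory.HomologySequence

/-!
A bounded below complex of families whose low levels have exact sections has an exact direct image in low degrees.
-/

set_option autoImplicit false
set_option backward.isDefEq.respectTransparency false
set_option backward.isDefEq.respectTransparency.types false
set_option backward.defeqAttrib.useBackward true
set_option linter.style.haveILetI false

universe u

open CategoryTheory CategoryTheory.Limits Opposite TopologicalSpace Simplicial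

namespace Groth.Agent.FibDescHyper

open FibDescLib

attribute [local instance] HasDerivedCategory.standard

variable {Y : (WithInitial SimplexCategory)ᵒᵖ ⥤ TopCat.{u}}

/-- The complexes of sections are exact in positive degrees below `n`. -/
def RowExact (n : ℕ) (M : DS Y) : Prop :=
  ∀ (U : Opens (base Y)) (k : ℕ), k + 1 < n → ∀ x : ((tsecU Y U).obj M).obj ⦋k + 1⦌,
    (cx ((tsecU Y U).obj M)).d (k + 1) (k + 1 + 1) x = 0 →
      ∃ y : ((tsecU Y U).obj M).obj ⦋k⦌, (cx ((tsecU Y U).obj M)).d k (k + 1) y = x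

theorem rowExact_of_injective (n : ℕ) (M : DS Y) [Injective M] : RowExact n M :=
  fun U k _ => (good_of_injective Y M).2 U k

/-- Functoriality of the complexes of sections. -/
noncomputable abbrev cxU (U : Opens (base Y)) {M N : DS Y} (φ : M ⟶ N) :
    cx ((tsecU Y U).obj M) ⟶ cx ((tsecU Y U).obj N) :=
  (SSExist.Cosimp.cxF AddCommGrpCat.{u}).map ((tsecU Y U).map φ)

theorem cxU_comm (U : Opens (base Y)) {M N : DS Y} (φ : M ⟶ N) (k : ℕ) (x : ((tsecU Y U).obj M).obj ⦋k⦌) :
    (cx ((tsecU Y U).obj N)).d k (k + 1) (φ.hom.app _ x) = φ.hom.app _ ((cx ((tsecU Y U).obj M)).d k (k + 1) x) :=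
  ConcreteCategory.congr_hom ((cxU U φ).comm k (k + 1)) x

theorem rowExact_sum {n : ℕ} {P Q R : DS Y} (f : R ⟶ P) (g : R ⟶ Q) (i : P ⟶ R) (j : Q ⟶ R)
    (h : f ≫ i + g ≫ j = 𝟙 R) (hP : RowExact n P) (hQ : RowExact n Q) : RowExact n R := by
  intro U k hk x hx
  obtain ⟨a, ha⟩ := hP U k hk (f.hom.app _ x) ((cxU_comm U f (k + 1) x).trans ((congrArg _ hx).trans (map_zero _)))
  obtain ⟨b, hb⟩ := hQ U k hk (g.hom.app _ x) ((cxU_comm U g (k + 1) x).trans ((congrArg _ hx).trans (map_zero _)))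
  let a' : ((tsecU Y U).obj R).obj ⦋k⦌ := i.hom.app _ a
  let b' : ((tsecU Y U).obj R).obj ⦋k⦌ := j.hom.app _ b
  refine ⟨a' + b', ?_⟩
  refine (map_add ((cx ((tsecU Y U).obj R)).d k (k + 1)).hom a' b').trans ?_
  refine (congrArg₂ (fun s t => s + t) ((cxU_comm U i k a).trans (congrArg _ ha))
    ((cxU_comm U j k b).trans (congrArg _ hb))).trans ?_
  exact ConcreteCategory.congr_hom (congr_app (congrArg (fun (φ : R ⟶ R) => φ.hom) h) ((topKU Y U).obj ⦋k + 1⦌)) x

variable (C : CochainComplex (DS Y) ℤ) (a : ℤ) [C.IsStrictlyGE a] (n : ℕ)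
  (hcol : ∀ (m : SimplexCategory), m.len ≤ n → ∀ (V : Opens (sp Y m)) (i : ℤ) (w : (C.X i).obj.obj (op (pob m V))),
    (C.d i (i + 1)).hom.app _ w = 0 → ∀ i', i' + 1 = i →
      ∃ y : (C.X i').obj.obj (op (pob m V)), (C.d i' i).hom.app _ y = w)
  (hrow : ∀ i, RowExact n (C.X i))

include hcol hrow in
theorem exists_preimage_cycle (U : Opens (base Y)) (j : ℕ) :
    ∀ (i : ℤ), i < a + j → ∀ k : ℕ, k + j < n → ∀ w : ((tsecU Y U).obj (C.X i)).obj ⦋k⦌,
      (cx ((tsecU Y U).obj (C.X i))).d k (k + 1) w = 0 → (C.d i (i + 1)).hom.app _ w = 0 →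
      ∀ i', i' + 1 = i → ∃ z : ((tsecU Y U).obj (C.X i')).obj ⦋k⦌,
        (cx ((tsecU Y U).obj (C.X i'))).d k (k + 1) z = 0 ∧ (C.d i' i).hom.app _ z = w := by
  induction j with
  | zero =>
    intro i hi k _ w _ _ i' _
    refine ⟨0, map_zero _, (map_zero _).trans ?_⟩
    have h := ConcreteCategory.congr_hom (congr_app (congrArg (fun (φ : C.X i ⟶ C.X i) => φ.hom)
      ((C.isZero_of_isStrictlyGE a i (by omega)).eq_of_src (𝟙 (C.X i)) 0)) ((topKU Y U).obj ⦋k⦌)) w
    exact h.symm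
  | succ j ih =>
    intro i hi k hk w hw hv i' hi'
    obtain ⟨y, hy⟩ := hcol ⦋k⦌ (show k ≤ n by omega) _ i w hv i' hi'
    obtain rfl : i = i' + 1 := hi'.symm
    let y₁ : ((tsecU Y U).obj (C.X i')).obj ⦋k⦌ := y
    let dy : ((tsecU Y U).obj (C.X i')).obj ⦋k + 1⦌ := (cx ((tsecU Y U).obj (C.X i'))).d k (k + 1) y
    have h1 : (C.d i' (i' + 1)).hom.app _ dy = 0 :=
      (cxU_comm U (C.d i' (i' + 1)) k y).symm.trans ((congrArg _ hy).trans hw)
    have h2 : (cx ((tsecU Y U).obj (C.X i'))).d (k + 1) (k + 1 + 1) dy = 0 :=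
      ConcreteCategory.congr_hom ((cx ((tsecU Y U).obj (C.X i'))).d_comp_d k (k + 1) (k + 1 + 1)) y
    obtain ⟨z', hz', hz''⟩ := ih i' (by omega) (k + 1) (by omega) dy h2 h1 (i' - 1) (by omega)
    obtain ⟨y', hy'⟩ := hrow (i' - 1) U k (by omega) z' hz'
    let vy' : ((tsecU Y U).obj (C.X i')).obj ⦋k⦌ := (C.d (i' - 1) i').hom.app _ y'
    refine ⟨y₁ - vy', ?_, ?_⟩
    · refine (map_sub ((cx ((tsecU Y U).obj (C.X i'))).d k (k + 1)).hom y₁ vy').trans (sub_eq_zero.2 ?_)
      exact hz''.symm.trans ((congrArg _ hy'.symm).trans (cxU_comm U (C.d (i' - 1) i') k y').symm)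
    · refine (map_sub ((C.d i' (i' + 1)).hom.app _).hom y₁ vy').trans ?_
      have h0 : (C.d i' (i' + 1)).hom.app _ vy' = 0 :=
        ConcreteCategory.congr_hom (congr_app (congrArg (fun (φ : C.X (i' - 1) ⟶ C.X (i' + 1)) => φ.hom) (C.d_comp_d (i' - 1) i' (i' + 1))) ((topKU Y U).obj ⦋k⦌)) y'
      let Wt := ((tsecU Y U).obj (C.X (i' + 1))).obj ⦋k⦌
      exact (congrArg₂ (fun (s t : Wt) => s - t) hy h0).trans (sub_zero _)

include hcol hrow in
theorem exactAt_push (i : ℤ) (j : ℕ) (hi : i < a + j) (hj : j < n) :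
    (((pushF Y).mapHomologicalComplex (ComplexShape.up ℤ)).obj C).ExactAt i := by
  rw [HomologicalComplex.exactAt_iff' _ (i - 1) i (i + 1) (CochainComplex.prev _ _ |>.trans (by omega))
    (CochainComplex.next _ _)]
  let T : ShortComplex (CohTop.Ab (base Y)) :=
    ShortComplex.mk ((pushF Y).map (C.d (i - 1) i)) ((pushF Y).map (C.d i (i + 1)))
      (by rw [← Functor.map_comp, C.d_comp_d, Functor.map_zero])
  show T.Exact
  let P := sheafToPresheaf (Opens.grothendieckTopology (base Y)) AddCommGrpCat.{u}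
  have hp : (T.map P).Exact := by
    rw [ShortComplex.exact_iff_isZero_homology]
    refine Functor.isZero _ fun U => ?_
    obtain ⟨U⟩ := U
    let ev : ((Opens (base Y))ᵒᵖ ⥤ AddCommGrpCat.{u}) ⥤ AddCommGrpCat.{u} := (evaluation _ _).obj (op U)
    refine IsZero.of_iso ?_ ((T.map P).mapHomologyIso ev).symm
    rw [← ShortComplex.exact_iff_isZero_homology, ShortComplex.ab_exact_iff]
    intro x hx
    let w : ((tsecU Y U).obj (C.X i)).obj ⦋0⦌ := pπ (C.X i) (n := ⦋0⦌) (U := U) le_rfl x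
    have hw : (cx ((tsecU Y U).obj (C.X i))).d 0 1 w = 0 := by
      refine (ConcreteCategory.congr_hom (SSExist.Cosimp.d_zero_one ((tsecU Y U).obj (C.X i))) w).trans
        (sub_eq_zero.2 ?_)
      exact (ConcreteCategory.congr_hom (pπ_compat (C.X i) (SimplexCategory.δ (n := 0) 0) U) x).trans
        (ConcreteCategory.congr_hom (pπ_compat (C.X i) (SimplexCategory.δ (n := 0) 1) U) x).symm
    have hv : (C.d i (i + 1)).hom.app _ w = 0 :=
      (ConcreteCategory.congr_hom (pushMap_pπ (C.d i (i + 1))) x).symm.trans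
        ((congrArg (pπ (C.X (i + 1)) (n := ⦋0⦌) (U := U) le_rfl) hx).trans (map_zero _))
    obtain ⟨z, hz, hz'⟩ := exists_preimage_cycle C a n hcol hrow U j i hi 0 (by omega) w hw hv (i - 1) (by omega)
    obtain ⟨v, hvv, hv0⟩ := exists_family (CategoryTheory.Prod.fst SimplexCategory SimplexCategory ⋙
      (tsecU Y U).obj (C.X (i - 1))) z
      (sub_eq_zero.1 ((ConcreteCategory.congr_hom (SSExist.Cosimp.d_zero_one ((tsecU Y U).obj (C.X (i - 1)))) z).symm.trans hz))
    obtain ⟨t, ht⟩ := exists_pSection (C.X (i - 1)) U (fun m => v (m, ⦋0⦌))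
      (fun {m m'} b => hvv ((b, 𝟙 _) : (m, ⦋0⦌) ⟶ (m', ⦋0⦌)))
    refine ⟨t, pπ_injective (C.X i) U fun m => ?_⟩
    have e0 : pπ (C.X i) (n := ⦋0⦌) (U := U) le_rfl (((pushF Y).map (C.d (i - 1) i)).hom.app (op U) t) = w :=
      (ConcreteCategory.congr_hom (pushMap_pπ (C.d (i - 1) i)) t).trans
        ((congrArg _ ((ht ⦋0⦌).trans hv0)).trans hz')
    let b : ⦋0⦌ ⟶ m := SimplexCategory.const ⦋0⦌ m 0
    exact (ConcreteCategory.congr_hom (pπ_compat (C.X i) b U) _).symm.trans
      ((congrArg _ e0).trans (ConcreteCategory.congr_hom (pπ_compat (C.X i) b U) x))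
  let sh := presheafToSheaf (Opens.grothendieckTopology (base Y)) AddCommGrpCat.{u}
  have := hp.map sh
  let ε := (sheafificationAdjunction (Opens.grothendieckTopology (base Y)) AddCommGrpCat.{u}).counit
  refine (ShortComplex.exact_iff_of_iso ?_).1 this
  exact ShortComplex.isoMk (asIso (ε.app T.X₁)) (asIso (ε.app T.X₂)) (asIso (ε.app T.X₃))
    (ε.naturality T.f).symm (ε.naturality T.g).symm

/-- A map whose cone is exact in two consecutive degrees is a quasi-isomorphism in the upper one. -/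
theorem quasiIsoAt_of_exactAt_cone {A : Type (u + 1)} [Category.{u} A] [Abelian A] {K L : CochainComplex A ℤ}
    (φ : K ⟶ L) (i₀ i₁ : ℤ) (h : i₀ + 1 = i₁) (h₀ : (CochainComplex.mappingCone φ).ExactAt i₀)
    (h₁ : (CochainComplex.mappingCone φ).ExactAt i₁) : QuasiIsoAt φ i₁ := by
  let T := DerivedCategory.Q.mapTriangle.obj (CochainComplex.mappingCone.triangle φ)
  have hT : T ∈ Pretriangulated.distinguishedTriangles := DerivedCategory.mappingCone_triangle_distinguished φ
  have z : ∀ i, (CochainComplex.mappingCone φ).ExactAt i → IsZero ((DerivedCategory.homologyFunctor A i).obj T.obj₃) :=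
    fun i hi => IsZero.of_iso ((HomologicalComplex.exactAt_iff_isZero_homology _ _).1 hi)
      ((DerivedCategory.homologyFunctorFactors A i).app (CochainComplex.mappingCone φ))
  haveI : Mono ((DerivedCategory.homologyFunctor A i₁).map T.mor₁) :=
    (DerivedCategory.HomologySequence.mono_homologyMap_mor₁_iff T hT i₀ i₁ h).2 ((z i₀ h₀).eq_of_src _ _)
  haveI : Epi ((DerivedCategory.homologyFunctor A i₁).map T.mor₁) :=
    (DerivedCategory.HomologySequence.epi_homologyMap_mor₁_iff T hT i₁).2 ((z i₁ h₁).eq_of_tgt _ _)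
  haveI : IsIso ((DerivedCategory.homologyFunctor A i₁).map T.mor₁) := isIso_of_mono_of_epi _
  rw [quasiIsoAt_iff_isIso_homologyMap]
  exact (NatIso.isIso_map_iff (DerivedCategory.homologyFunctorFactors A i₁) φ).1
    (inferInstanceAs (IsIso ((DerivedCategory.homologyFunctor A i₁).map T.mor₁)))

end Groth.Agent.FibDescHyper
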