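import Groth.Agent.FibDescHyper.Retract
import Groth.Agent.FibDescHyper.Staircase
import Groth.Agent.FibDescLib.UnitCritGen
import Groth.Agent.FibDescSS.LevelBC
import Groth.Agent.SSExist.Hyper

/-!
A family which agrees in every finite range of degrees with a family of descent is of descent.
-/

set_option autoImplicit false
set_option backward.isDefEq.respectTransparency false
set_option backward.isDefEq.respectTransparency.types false
set_option backward.defeqAttrib.useBackward true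
set_option linter.style.haveILetI false

universe u

open CategoryTheory CategoryTheory.Limits Opposite TopologicalSpace Simplicial

namespace Groth.Agent.FibDescHyper

open FibDescLib

attribute [local instance] HasDerivedCategory.standard

/-- Direct images compose. -/
noncomputable def pushPush {T₁ T₂ T₃ : TopCat.{u}} (g : T₁ ⟶ T₂) (h : T₂ ⟶ T₃) (gh : T₁ ⟶ T₃) (w : g ≫ h = gh) :
    CohTop.push g ⋙ CohTop.push h ≅ CohTop.push gh :=
  w ▸ NatIso.ofComponents (fun _ => Iso.refl _) fun _ => by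
    apply Sheaf.hom_ext
    ext U
    rfl

/-- The direct image along the identity. -/
noncomputable def pushId (T : TopCat.{u}) : CohTop.push (𝟙 T) ≅ 𝟭 (CohTop.Ab T) :=
  NatIso.ofComponents (fun _ => Iso.refl _) fun _ => by
    apply Sheaf.hom_ext
    ext U
    rfl

/-- Direct image along an isomorphism. -/
noncomputable def pushEquiv {T₁ T₂ : TopCat.{u}} (t : T₁ ⟶ T₂) [IsIso t] : CohTop.Ab T₁ ≌ CohTop.Ab T₂ :=
  CategoryTheory.Equivalence.mk (CohTop.push t) (CohTop.push (inv t))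
    (pushPush t (inv t) (𝟙 _) (IsIso.hom_inv_id t) ≪≫ pushId _).symm
    (pushPush (inv t) t (𝟙 _) (IsIso.inv_hom_id t) ≪≫ pushId _)

theorem isIso_unit_pullPush {T₁ T₂ : TopCat.{u}} (t : T₁ ⟶ T₂) [IsIso t] (G : CohTop.Ab T₂) :
    IsIso ((TopCat.Sheaf.pullbackPushforwardAdjunction AddCommGrpCat.{u} t).unit.app G) := by
  haveI : (CohTop.push t).IsEquivalence := (pushEquiv t).isEquivalence_functor
  haveI := (TopCat.Sheaf.pullbackPushforwardAdjunction AddCommGrpCat.{u} t).isEquivalence_left_of_isEquivalence_right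
  infer_instance

theorem injective_pull_of_isIso {T₁ T₂ : TopCat.{u}} (t : T₁ ⟶ T₂) [IsIso t] (G : CohTop.Ab T₂) [Injective G] :
    Injective ((CohTop.pull t).obj G) := by
  haveI := SSExist.preservesFiniteLimits_pullTop (inv t)
  haveI : Injective ((CohTop.push (inv t)).obj G) :=
    Injective.injective_of_adjoint (TopCat.Sheaf.pullbackPushforwardAdjunction AddCommGrpCat.{u} (inv t)) G
  exact Injective.of_iso (((pushEquiv t).symm.toAdjunction.leftAdjointUniq
    (TopCat.Sheaf.pullbackPushforwardAdjunction AddCommGrpCat.{u} t)).app G) inferInstance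

variable {S : TopCat.{u}} {Zl Zl' : SimplexCategoryᵒᵖ ⥤ TopCat.{u}}
  {θl : ∀ d, Zl.obj (op d) ⟶ S} {hθ : ∀ {n m : SimplexCategory} (a : n ⟶ m), Zl.map a.op ≫ θl n = θl m}
  {θl' : ∀ d, Zl'.obj (op d) ⟶ S} {hθ' : ∀ {n m : SimplexCategory} (a : n ⟶ m), Zl'.map a.op ≫ θl' n = θl' m}
  (φ : Zl ⟶ Zl') (hφ : ∀ d, φ.app (op d) ≫ θl' d = θl d)

/-- The map of families. -/
noncomputable abbrev appMap : AugMap (mkAug S Zl θl hθ) (mkAug S Zl' θl' hθ') :=
  overMap (Zl := Zl') (Zl' := Zl) (hθ := hθ') (hθ' := hθ) φ hφ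

/-- Direct images commute. -/
noncomputable def ePI : (appMap (hθ := hθ) (hθ' := hθ') φ hφ).τ.pushL ⋙ pushF (mkAug S Zl' θl' hθ') ≅
    pushF (mkAug S Zl θl hθ) :=
  (appMap (hθ := hθ) (hθ' := hθ') φ hφ).pushIso ≪≫
    Functor.isoWhiskerLeft (pushF (mkAug S Zl θl hθ)) (pushId S) ≪≫ Functor.rightUnitor _

/-- Inverse images commute. -/
noncomputable def pullA : pullF (mkAug S Zl' θl' hθ') ⋙ (appMap (hθ := hθ) (hθ' := hθ') φ hφ).jP ≅
    pullF (mkAug S Zl θl hθ) :=
  (((padj (Y := mkAug S Zl' θl' hθ')).comp (appMap (hθ := hθ) (hθ' := hθ') φ hφ).ladj).ofNatIsoRight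
    (ePI (hθ := hθ) (hθ' := hθ') φ hφ)).leftAdjointUniq (padj (Y := mkAug S Zl θl hθ))

/-- The comparison of direct images. -/
noncomputable def νA (N : DS (mkAug S Zl' θl' hθ')) :
    (pushF (mkAug S Zl' θl' hθ')).obj N ⟶
      (pushF (mkAug S Zl θl hθ)).obj ((appMap (hθ := hθ) (hθ' := hθ') φ hφ).jP.obj N) :=
  (pushF (mkAug S Zl' θl' hθ')).map ((appMap (hθ := hθ) (hθ' := hθ') φ hφ).ladj.unit.app N) ≫
    (ePI (hθ := hθ) (hθ' := hθ') φ hφ).hom.app _

theorem νA_naturality {N N' : DS (mkAug S Zl' θl' hθ')} (f : N ⟶ N') :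
    (pushF (mkAug S Zl' θl' hθ')).map f ≫ νA (hθ := hθ) (hθ' := hθ') φ hφ N' =
      νA (hθ := hθ) (hθ' := hθ') φ hφ N ≫ (pushF (mkAug S Zl θl hθ)).map ((appMap (hθ := hθ) (hθ' := hθ') φ hφ).jP.map f) := by
  unfold νA
  refine (Category.assoc _ _ _).symm.trans (Eq.trans ?_ (Category.assoc _ _ _).symm)
  refine Eq.trans ?_ (congrArg (CategoryStruct.comp _)
    ((ePI (hθ := hθ) (hθ' := hθ') φ hφ).hom.naturality ((appMap (hθ := hθ) (hθ' := hθ') φ hφ).jP.map f)))
  refine Eq.trans ?_ (Category.assoc _ _ _)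
  refine congrArg (fun t => t ≫ _) ?_
  exact ((pushF (mkAug S Zl' θl' hθ')).map_comp _ _).symm.trans
    ((congrArg (pushF (mkAug S Zl' θl' hθ')).map ((appMap (hθ := hθ) (hθ' := hθ') φ hφ).ladj.unit.naturality f)).trans
      ((pushF (mkAug S Zl' θl' hθ')).map_comp _ _))

theorem unit_νA (L : BS (mkAug S Zl θl hθ)) :
    (padj (Y := mkAug S Zl' θl' hθ')).unit.app L ≫ νA (hθ := hθ) (hθ' := hθ') φ hφ ((pullF (mkAug S Zl' θl' hθ')).obj L) ≫
      (pushF (mkAug S Zl θl hθ)).map ((pullA (hθ := hθ) (hθ' := hθ') φ hφ).hom.app L) = (padj (Y := mkAug S Zl θl hθ)).unit.app L := by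
  have h := Adjunction.unit_leftAdjointUniq_hom_app
    (((padj (Y := mkAug S Zl' θl' hθ')).comp (appMap (hθ := hθ) (hθ' := hθ') φ hφ).ladj).ofNatIsoRight (ePI (hθ := hθ) (hθ' := hθ') φ hφ))
    (padj (Y := mkAug S Zl θl hθ)) L
  refine Eq.trans ?_ h
  have u1 : (((padj (Y := mkAug S Zl' θl' hθ')).comp (appMap (hθ := hθ) (hθ' := hθ') φ hφ).ladj).ofNatIsoRight
      (ePI (hθ := hθ) (hθ' := hθ') φ hφ)).unit.app L =
      ((padj (Y := mkAug S Zl' θl' hθ')).comp (appMap (hθ := hθ) (hθ' := hθ') φ hφ).ladj).unit.app L ≫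
        (ePI (hθ := hθ) (hθ' := hθ') φ hφ).hom.app _ := by
    rw [← Adjunction.homEquiv_id, Adjunction.homEquiv_ofNatIsoRight_apply, Adjunction.homEquiv_id]
  rw [u1, Adjunction.comp_unit_app]
  unfold νA
  simp only [Category.assoc]
  rfl

/-- The comparison of sections. -/
noncomputable def κ (N : DS (mkAug S Zl' θl' hθ')) (U : Opens S) :
    (tsecU (mkAug S Zl' θl' hθ') U).obj N ⟶
      (tsecU (mkAug S Zl θl hθ) U).obj ((appMap (hθ := hθ) (hθ' := hθ') φ hφ).jP.obj N) where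
  app d := ((appMap (hθ := hθ) (hθ' := hθ') φ hφ).ladj.unit.app N).hom.app _ ≫
    ((appMap (hθ := hθ) (hθ' := hθ') φ hφ).jP.obj N).obj.map
      ((appMap (hθ := hθ) (hθ' := hθ') φ hφ).eU d U).op
  naturality {d e} a := by
    let M := appMap (hθ := hθ) (hθ' := hθ') φ hφ
    show N.obj.map (phθ (Y := mkAug S Zl' θl' hθ') a U).op ≫ (M.ladj.unit.app N).hom.app _ ≫ _ =
      ((M.ladj.unit.app N).hom.app _ ≫ (M.jP.obj N).obj.map (M.eU d U).op) ≫
        (M.jP.obj N).obj.map (phθ (Y := mkAug S Zl θl hθ) a ((Opens.map M.g).obj U)).op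
    refine (Category.assoc _ _ _).symm.trans
      ((congrArg (fun t => t ≫ _) ((M.ladj.unit.app N).hom.naturality (phθ (Y := mkAug S Zl' θl' hθ') a U).op)).trans ?_)
    refine (Category.assoc _ _ _).trans (Eq.trans ?_ (Category.assoc _ _ _).symm)
    refine congrArg (CategoryStruct.comp _) ?_
    show (M.jP.obj N).obj.map (M.τ.H.map (phθ (Y := mkAug S Zl' θl' hθ') a U)).op ≫ (M.jP.obj N).obj.map (M.eU e U).op = _
    rw [← Functor.map_comp, ← Functor.map_comp, ← op_comp, ← op_comp]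
    congr 2

theorem νA_pπ (N : DS (mkAug S Zl' θl' hθ')) (U : Opens S) (d : SimplexCategory) :
    (νA (hθ := hθ) (hθ' := hθ') φ hφ N).hom.app (op U) ≫ pπ _ (n := d) le_rfl = pπ N (n := d) le_rfl ≫ (κ (hθ := hθ) (hθ' := hθ') φ hφ N U).app d := by
  let M := appMap (hθ := hθ) (hθ' := hθ') φ hφ
  show (((pushF (mkAug S Zl' θl' hθ')).map (M.ladj.unit.app N)).hom.app (op U) ≫ (M.pushApp (M.jP.obj N) U).hom ≫ 𝟙 _ ≫ 𝟙 _) ≫ _ = _
  rw [Category.comp_id, Category.comp_id]
  refine (Category.assoc _ _ _).trans ((congrArg (CategoryStruct.comp _) (M.pushApp_spec (M.jP.obj N) U d)).trans ?_)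
  refine (Category.assoc _ _ _).symm.trans ((congrArg (fun t => t ≫ _) (pushMap_pπ (M.ladj.unit.app N))).trans ?_)
  exact Category.assoc _ _ _

variable {n : ℕ} (hiso : ∀ d : SimplexCategory, d.len ≤ n → IsIso (φ.app (op d)))

include hiso in
theorem isIso_lv_unit (N : DS (mkAug S Zl' θl' hθ')) (d : SimplexCategory) (hd : d.len ≤ n) :
    IsIso ((lv (mkAug S Zl' θl' hθ') d).map ((appMap (hθ := hθ) (hθ' := hθ') φ hφ).ladj.unit.app N)) := by
  let M := appMap (hθ := hθ) (hθ' := hθ') φ hφ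
  haveI : IsIso (M.τ.t d) := hiso d hd
  haveI := M.isIso_μ d N
  haveI := isIso_unit_pullPush (M.τ.t d) ((lv _ d).obj N)
  rw [← M.unit_μ d N]
  infer_instance

include hiso in
theorem bijective_κ (N : DS (mkAug S Zl' θl' hθ')) (U : Opens S) (d : SimplexCategory) (hd : d.len ≤ n) :
    Function.Bijective ((κ (hθ := hθ) (hθ' := hθ') φ hφ N U).app d) := by
  let M := appMap (hθ := hθ) (hθ' := hθ') φ hφ
  haveI := isIso_lv_unit (hθ := hθ) (hθ' := hθ') φ hφ hiso N d hd
  haveI : IsIso ((M.ladj.unit.app N).hom.app (op (pob d ((Opens.map (θ (mkAug S Zl' θl' hθ') d)).obj U)))) :=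
    inferInstanceAs (IsIso (((sheafToPresheaf _ _).map ((lv (mkAug S Zl' θl' hθ') d).map (M.ladj.unit.app N))).app
      (op ((Opens.map (θ (mkAug S Zl' θl' hθ') d)).obj U))))
  haveI : IsIso (M.eU d U) := ⟨M.eU' d U, tot_hom_ext (by simp [LMap.H]), tot_hom_ext (by simp [LMap.H])⟩
  exact (ConcreteCategory.isIso_iff_bijective _).1
    (inferInstanceAs (IsIso ((M.ladj.unit.app N).hom.app _ ≫ (M.jP.obj N).obj.map (M.eU d U).op)))

include hiso in
theorem injective_lv_jP (N : DS (mkAug S Zl' θl' hθ')) [Injective N] (d : SimplexCategory) (hd : d.len ≤ n) :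
    Injective ((lv (mkAug S Zl θl hθ) d).obj ((appMap (hθ := hθ) (hθ' := hθ') φ hφ).jP.obj N)) := by
  let M := appMap (hθ := hθ) (hθ' := hθ') φ hφ
  haveI : IsIso (M.τ.t d) := hiso d hd
  haveI := M.isIso_μ d N
  haveI := injective_lv (mkAug S Zl' θl' hθ') d N
  exact Injective.of_iso (asIso (M.μ d N)) (injective_pull_of_isIso (M.τ.t d) _)

include hiso in
theorem rowExact_jP (N : DS (mkAug S Zl' θl' hθ')) [Injective N] :
    RowExact n ((appMap (hθ := hθ) (hθ' := hθ') φ hφ).jP.obj N) := by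
  intro U k hk x hx
  let F := (SSExist.Cosimp.cxF AddCommGrpCat.{u}).map (κ (hθ := hθ) (hθ' := hθ') φ hφ N U)
  obtain ⟨b, rfl⟩ := (bijective_κ (hθ := hθ) (hθ' := hθ') φ hφ hiso N U ⦋k + 1⦌ (show k + 1 ≤ n by omega)).2 x
  have hb : (cx ((tsecU (mkAug S Zl' θl' hθ') U).obj N)).d (k + 1) (k + 1 + 1) b = 0 := by
    refine (bijective_κ (hθ := hθ) (hθ' := hθ') φ hφ hiso N U ⦋k + 1 + 1⦌ (show k + 1 + 1 ≤ n by omega)).1 ?_
    exact ((ConcreteCategory.congr_hom (F.comm (k + 1) (k + 1 + 1)) b).symm.trans hx).trans (map_zero _).symm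
  obtain ⟨y, hy⟩ := (good_of_injective (mkAug S Zl' θl' hθ') N).2 U k b hb
  exact ⟨(κ (hθ := hθ) (hθ' := hθ') φ hφ N U).app _ y,
    (ConcreteCategory.congr_hom (F.comm k (k + 1)) y).trans (congrArg (F.f (k + 1)) hy)⟩

include hiso in
theorem isIso_νA (hn : 1 ≤ n) (N : DS (mkAug S Zl' θl' hθ')) : IsIso (νA (hθ := hθ) (hθ' := hθ') φ hφ N) := by
  have : ∀ U, IsIso ((νA (hθ := hθ) (hθ' := hθ') φ hφ N).hom.app U) := by
    rintro ⟨U⟩
    let Y' := mkAug S Zl' θl' hθ'
    let JN := (appMap (hθ := hθ) (hθ' := hθ') φ hφ).jP.obj N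
    let κU := κ (hθ := hθ) (hθ' := hθ') φ hφ N U
    have hν : ∀ (a : ((pushF Y').obj N).obj.obj (op U)) (d : SimplexCategory),
        pπ JN (n := d) (U := U) le_rfl ((νA (hθ := hθ) (hθ' := hθ') φ hφ N).hom.app (op U) a) =
          κU.app d (pπ N (n := d) (U := U) le_rfl a) := fun a d =>
      ConcreteCategory.congr_hom (νA_pπ (hθ := hθ) (hθ' := hθ') φ hφ N U d) a
    refine (ConcreteCategory.isIso_iff_bijective _).2 ⟨fun a b h => pπ_injective N U fun d => ?_, fun t => ?_⟩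
    · let e : ⦋0⦌ ⟶ d := SimplexCategory.const ⦋0⦌ d 0
      refine (ConcreteCategory.congr_hom (pπ_compat N e U) a).symm.trans
        (Eq.trans ?_ (ConcreteCategory.congr_hom (pπ_compat N e U) b))
      refine congrArg (N.obj.map (phθ e U).op) ((bijective_κ (hθ := hθ) (hθ' := hθ') φ hφ hiso N U ⦋0⦌ (Nat.zero_le _)).1 ?_)
      exact (hν a ⦋0⦌).symm.trans ((congrArg _ h).trans (hν b ⦋0⦌))
    · obtain ⟨w, hw⟩ := (bijective_κ (hθ := hθ) (hθ' := hθ') φ hφ hiso N U ⦋0⦌ (Nat.zero_le _)).2 (pπ JN (n := ⦋0⦌) (U := U) le_rfl t)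
      let G := (tsecU Y' U).obj N
      have hc : ∀ (i : Fin 2), κU.app ⦋1⦌ (G.map (SimplexCategory.δ (n := 0) i) w) =
          pπ JN (n := ⦋1⦌) (U := U) le_rfl t := fun i =>
        (ConcreteCategory.congr_hom (κU.naturality (SimplexCategory.δ (n := 0) i)) w).trans
          ((congrArg _ hw).trans (ConcreteCategory.congr_hom (pπ_compat JN (SimplexCategory.δ (n := 0) i) U) t))
      obtain ⟨v, hv, hv0⟩ := exists_family (CategoryTheory.Prod.fst SimplexCategory SimplexCategory ⋙ G) w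
        ((bijective_κ (hθ := hθ) (hθ' := hθ') φ hφ hiso N U ⦋1⦌ hn).1 ((hc 0).trans (hc 1).symm))
      obtain ⟨s, hs⟩ := exists_pSection N U (fun d => v (d, ⦋0⦌))
        (fun {d e} b => hv ((b, 𝟙 _) : (d, ⦋0⦌) ⟶ (e, ⦋0⦌)))
      refine ⟨s, pπ_injective JN U fun d => ?_⟩
      let e : ⦋0⦌ ⟶ d := SimplexCategory.const ⦋0⦌ d 0
      have e0 : pπ JN (n := ⦋0⦌) (U := U) le_rfl ((νA (hθ := hθ) (hθ' := hθ') φ hφ N).hom.app (op U) s) =
          pπ JN (n := ⦋0⦌) (U := U) le_rfl t :=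
        (hν s ⦋0⦌).trans ((congrArg _ ((hs ⦋0⦌).trans hv0)).trans hw)
      exact (ConcreteCategory.congr_hom (pπ_compat JN e U) _).symm.trans
        ((congrArg _ e0).trans (ConcreteCategory.congr_hom (pπ_compat JN e U) t))
  have : IsIso (νA (hθ := hθ) (hθ' := hθ') φ hφ N).hom := NatIso.isIso_of_isIso_app _
  have : IsIso ((sheafToPresheaf _ _).map (νA (hθ := hθ) (hθ' := hθ') φ hφ N)) := ‹IsIso (νA (hθ := hθ) (hθ' := hθ') φ hφ N).hom›
  exact isIso_of_reflects_iso _ (sheafToPresheaf _ _)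

include hφ hiso in
set_option maxHeartbeats 1000000 in
theorem quasiIsoAt_transpose (hn : 1 ≤ n) (h : FibDesc.IsCohDescentTop (mkAug S Zl' θl' hθ'))
    (L : CochainComplex (BS (mkAug S Zl θl hθ)) ℤ) (I : CochainComplex (DS (mkAug S Zl θl hθ)) ℤ) (a : ℤ)
    [L.IsStrictlyGE a] [I.IsStrictlyGE a] [∀ i, Injective (I.X i)]
    (q : ((pullF (mkAug S Zl θl hθ)).mapHomologicalComplex (ComplexShape.up ℤ)).obj L ⟶ I) [QuasiIso q]
    (i : ℤ) (hi : i - a + 3 < n) : QuasiIsoAt (cxTranspose (padj (Y := mkAug S Zl θl hθ)) q) i := by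
  let Y := mkAug S Zl θl hθ
  let Y' := mkAug S Zl' θl' hθ'
  let M := appMap (hθ := hθ) (hθ' := hθ') φ hφ
  let c := ComplexShape.up ℤ
  obtain ⟨J, q', _, hJ, _⟩ :=
    exists_injective_resolution (((pullF Y').mapHomologicalComplex c).obj L) a
  obtain ⟨_, _, _, _, _, hlex, hFF⟩ := h
  haveI hq' : QuasiIso (cxTranspose (padj (Y := Y')) q') := quasiIso_transpose_gen (padj (Y := Y')) hFF a q'
  let J₀ := (M.jP.mapHomologicalComplex c).obj J
  haveI : CochainComplex.IsStrictlyGE J₀ a :=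
    inferInstanceAs (CochainComplex.IsStrictlyGE ((M.jP.mapHomologicalComplex c).obj J) a)
  let cc : ((pullF Y).mapHomologicalComplex c).obj L ⟶
      (M.jP.mapHomologicalComplex c).obj (((pullF Y').mapHomologicalComplex c).obj L) :=
    { f := fun i => (pullA (hθ := hθ) (hθ' := hθ') φ hφ).inv.app (L.X i)
      comm' := fun i j _ => ((pullA (hθ := hθ) (hθ' := hθ') φ hφ).inv.naturality (L.d i j)).symm }
  have : ∀ i, IsIso (cc.f i) := fun i => inferInstanceAs (IsIso ((pullA (hθ := hθ) (hθ' := hθ') φ hφ).inv.app (L.X i)))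
  have : IsIso cc := HomologicalComplex.Hom.isIso_of_components cc
  let q₀ : ((pullF Y).mapHomologicalComplex c).obj L ⟶ J₀ := cc ≫ (M.jP.mapHomologicalComplex c).map q'
  have : QuasiIso ((M.jP.mapHomologicalComplex c).map q') := inferInstance
  have : QuasiIso q₀ := inferInstanceAs (QuasiIso (cc ≫ (M.jP.mapHomologicalComplex c).map q'))
  haveI := CochainComplex.isKInjective_of_injective I a
  let qh := HomotopyCategory.quotient (DS Y) c
  haveI : IsIso (DerivedCategory.Qh.map (qh.map q₀)) :=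
    (DerivedCategory.isIso_Qh_map_iff (qh.map q₀)).2 ((HomotopyCategory.quotient_map_mem_quasiIso_iff _).2 ‹QuasiIso q₀›)
  obtain ⟨rh, hrh⟩ := (CochainComplex.IsKInjective.Qh_map_bijective (qh.obj J₀) I).2
    (inv (DerivedCategory.Qh.map (qh.map q₀)) ≫ DerivedCategory.Qh.map (qh.map q))
  obtain ⟨r, rfl⟩ := qh.map_surjective rh
  have hh : qh.map (q₀ ≫ r) = qh.map q := by
    refine (CochainComplex.IsKInjective.Qh_map_bijective _ I).1 ?_
    rw [Functor.map_comp, Functor.map_comp, hrh, IsIso.hom_inv_id_assoc]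
  let ho : Homotopy (q₀ ≫ r) q := HomotopyCategory.homotopyOfEq _ _ hh
  haveI : QuasiIso (q₀ ≫ r) := ⟨fun j => by
    rw [quasiIsoAt_iff_isIso_homologyMap, ho.homologyMap_eq, ← quasiIsoAt_iff_isIso_homologyMap]
    exact ‹QuasiIso q›.quasiIsoAt j⟩
  haveI : QuasiIso r := quasiIso_of_comp_left q₀ r
  haveI : PreservesFiniteLimits (pushF Y) := by
    have := (padj (Y := Y)).rightAdjoint_preservesLimits
    infer_instance
  let pr := ((pushF Y).mapHomologicalComplex c).map r
  haveI : CochainComplex.IsStrictlyGE (CochainComplex.mappingCone r) (a - 1) :=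
    CochainComplex.isStrictlyGE_mappingCone r a a (a - 1) (by omega) (by omega)
  have hlvinj : ∀ (m : SimplexCategory), m.len ≤ n → ∀ p, Injective ((lv Y m).obj ((CochainComplex.mappingCone r).X p)) := by
    intro m hm p
    let e : (CochainComplex.mappingCone r).X p ≅ J₀.X (p + 1) ⊞ I.X p :=
      HomologicalComplex.homotopyCofiber.XIsoBiprod r p (p + 1) rfl
    haveI : PreservesBinaryBiproduct (J₀.X (p + 1)) (I.X p) (lv Y m) :=
      preservesBinaryBiproduct_of_preservesBiproduct _ _ _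
    haveI : Injective ((lv Y m).obj (J₀.X (p + 1))) := injective_lv_jP (hθ := hθ) (hθ' := hθ') φ hφ hiso (J.X (p + 1)) m hm
    haveI := injective_lv Y m (I.X p)
    exact Injective.of_iso ((lv Y m).mapIso e ≪≫ (lv Y m).mapBiprod _ _).symm inferInstance
  have hrow : ∀ p, RowExact n ((CochainComplex.mappingCone r).X p) := fun p =>
    rowExact_sum _ _ _ _ (CochainComplex.mappingCone.id_X r p (p + 1) rfl)
      (rowExact_jP (hθ := hθ) (hθ' := hθ') φ hφ hiso (J.X (p + 1))) (rowExact_of_injective n (I.X p))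
  have hcone : (CochainComplex.mappingCone r).Acyclic := by
    have hT := HomotopyCategory.mappingCone_triangleh_distinguished r
    have h₀ : HomotopyCategory.quasiIso (DS Y) c (CochainComplex.mappingCone.triangleh r).mor₁ :=
      (HomotopyCategory.quotient_map_mem_quasiIso_iff r).2 ‹QuasiIso r›
    rw [HomotopyCategory.quasiIso_eq_trW_subcategoryAcyclic,
      (HomotopyCategory.subcategoryAcyclic (DS Y)).trW_iff_of_distinguished _ hT] at h₀
    exact (HomotopyCategory.quotient_obj_mem_subcategoryAcyclic_iff_acyclic _).1 h₀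
  have hcol : ∀ (m : SimplexCategory), m.len ≤ n → ∀ (V : Opens (sp Y m)) (p : ℤ)
      (w : ((CochainComplex.mappingCone r).X p).obj.obj (op (pob m V))),
      ((CochainComplex.mappingCone r).d p (p + 1)).hom.app _ w = 0 → ∀ p', p' + 1 = p →
        ∃ y : ((CochainComplex.mappingCone r).X p').obj.obj (op (pob m V)),
          ((CochainComplex.mappingCone r).d p' p).hom.app _ y = w := by
    intro m hm V p w hw p' hp'
    let Γ : CohTop.Ab (sp Y m) ⥤ AddCommGrpCat.{u} :=
      (sheafSections (Opens.grothendieckTopology (sp Y m)) AddCommGrpCat.{u}).obj (op V)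
    haveI : Γ.Additive := { map_add := rfl }
    haveI : PreservesFiniteLimits Γ := by
      haveI : PreservesLimitsOfSize.{0, 0} (sheafToPresheaf (Opens.grothendieckTopology (sp Y m)) AddCommGrpCat.{u}) :=
        (sheafificationAdjunction _ _).rightAdjoint_preservesLimits
      exact inferInstanceAs (PreservesFiniteLimits (sheafToPresheaf _ _ ⋙ (evaluation _ _).obj (op V)))
    let D : CochainComplex (CohTop.Ab (sp Y m)) ℤ := ((lv Y m).mapHomologicalComplex c).obj (CochainComplex.mappingCone r)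
    haveI : D.IsStrictlyGE (a - 1) :=
      inferInstanceAs (CochainComplex.IsStrictlyGE (((lv Y m).mapHomologicalComplex c).obj (CochainComplex.mappingCone r)) (a - 1))
    have hD : D.Acyclic := fun j => by
      rw [HomologicalComplex.exactAt_iff]
      exact ((HomologicalComplex.exactAt_iff _ _).1 (hcone j)).map (lv Y m)
    have hA := TriH.acyclic_map_of_acyclic Γ D (a - 1) hD fun j =>
      haveI := hlvinj m hm j
      TriH.isAcyclicObj_of_injective Γ ((lv Y m).obj ((CochainComplex.mappingCone r).X j))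
    have h2 := hA p
    rw [HomologicalComplex.exactAt_iff' _ p' p (p + 1) (CochainComplex.prev _ _ |>.trans (by omega))
      (CochainComplex.next _ _), ShortComplex.ab_exact_iff] at h2
    exact h2 w hw
  have hpr : QuasiIsoAt pr i := by
    have hex : ∀ p : ℤ, p ≤ i → (CochainComplex.mappingCone pr).ExactAt p := fun p hp => by
      refine HomologicalComplex.ExactAt.of_iso ?_ (CochainComplex.mappingCone.mapHomologicalComplexIso r (pushF Y))
      exact exactAt_push (CochainComplex.mappingCone r) (a - 1) n hcol hrow p (i - (a - 1) + 1).toNat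
        (by omega) (by omega)
    exact quasiIsoAt_of_exactAt_cone pr (i - 1) i (by omega) (hex _ (by omega)) (hex _ le_rfl)
  let νc : ((pushF Y').mapHomologicalComplex c).obj J ⟶ ((pushF Y).mapHomologicalComplex c).obj J₀ :=
    { f := fun i => νA (hθ := hθ) (hθ' := hθ') φ hφ (J.X i)
      comm' := fun i j _ => (νA_naturality (hθ := hθ) (hθ' := hθ') φ hφ (J.d i j)).symm }
  have : ∀ i, IsIso (νc.f i) := fun i => isIso_νA (hθ := hθ) (hθ' := hθ') φ hφ hiso hn (J.X i)
  have : IsIso νc := HomologicalComplex.Hom.isIso_of_components νc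
  have e : cxTranspose (padj (Y := Y)) (q₀ ≫ r) = cxTranspose (padj (Y := Y')) q' ≫ νc ≫ pr := by
    apply HomologicalComplex.hom_ext
    intro i
    show (padj (Y := mkAug S Zl θl hθ)).unit.app (L.X i) ≫
        (pushF Y).map (((pullA (hθ := hθ) (hθ' := hθ') φ hφ).inv.app (L.X i) ≫ M.jP.map (q'.f i)) ≫ r.f i) =
      ((padj (Y := Y')).unit.app (L.X i) ≫ (pushF Y').map (q'.f i)) ≫ νA (hθ := hθ) (hθ' := hθ') φ hφ (J.X i) ≫ (pushF Y).map (r.f i)
    rw [← unit_νA (hθ := hθ) (hθ' := hθ') φ hφ (L.X i)]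
    simp only [Category.assoc]
    refine congrArg (CategoryStruct.comp _) ?_
    refine Eq.trans ?_ ((congrArg (fun t => t ≫ (pushF Y).map (r.f i)) (νA_naturality (hθ := hθ) (hθ' := hθ') φ hφ (q'.f i))).symm.trans
      (Category.assoc _ _ _))
    refine Eq.trans ?_ (Category.assoc _ _ _).symm
    refine congrArg (CategoryStruct.comp _) ?_
    refine ((pushF Y).map_comp _ _).symm.trans (Eq.trans ?_ ((pushF Y).map_comp _ _))
    refine congrArg (pushF Y).map ?_
    exact (Category.assoc _ _ _).symm.trans ((congrArg (fun t => t ≫ _) ((pullA (hθ := hθ) (hθ' := hθ') φ hφ).hom_inv_id_app (L.X i))).trans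
      (Category.id_comp _))
  have hm : HomologicalComplex.homologyMap (cxTranspose (padj (Y := Y)) q) i =
      HomologicalComplex.homologyMap (cxTranspose (padj (Y := Y)) (q₀ ≫ r)) i := by
    unfold cxTranspose
    rw [HomologicalComplex.homologyMap_comp, HomologicalComplex.homologyMap_comp,
      ((pushF Y).mapHomotopy ho).homologyMap_eq]
  rw [quasiIsoAt_iff_isIso_homologyMap, hm, ← quasiIsoAt_iff_isIso_homologyMap, e]
  haveI : QuasiIsoAt νc i := (inferInstance : QuasiIso νc).quasiIsoAt i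
  haveI : QuasiIsoAt (cxTranspose (padj (Y := Y')) q') i := hq'.quasiIsoAt i
  haveI := hpr
  haveI : QuasiIsoAt (νc ≫ pr) i := quasiIsoAt_comp νc pr i
  exact quasiIsoAt_comp _ _ i

include hθ in
/-- Descent from approximations in all finite ranges of degrees. -/
theorem isCohDescentTop_of_approx
    (happ : ∀ n : ℕ, ∃ (Zl'' : SimplexCategoryᵒᵖ ⥤ TopCat.{u}) (θ'' : ∀ d, Zl''.obj (op d) ⟶ S)
      (hθ'' : ∀ {n m : SimplexCategory} (a : n ⟶ m), Zl''.map a.op ≫ θ'' n = θ'' m) (ψ : Zl ⟶ Zl''),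
      (∀ d, ψ.app (op d) ≫ θ'' d = θl d) ∧ (∀ d : SimplexCategory, d.len ≤ n → IsIso (ψ.app (op d))) ∧
        FibDesc.IsCohDescentTop (mkAug S Zl'' θ'' hθ'')) :
    FibDesc.IsCohDescentTop (mkAug S Zl θl hθ) := by
  refine ⟨inferInstance, inferInstance, inferInstance, inferInstance, inferInstance, inferInstance, ?_⟩
  refine bijective_of_exists_resolution (padj (Y := mkAug S Zl θl hθ)) fun L a _ _ => ?_
  obtain ⟨I, q, _, hI, _⟩ :=
    exists_injective_resolution (((pullF (mkAug S Zl θl hθ)).mapHomologicalComplex (ComplexShape.up ℤ)).obj L) a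
  refine ⟨I, q, ‹_›, hI, ‹_›, ⟨fun i => ?_⟩⟩
  obtain ⟨Zl'', θ'', hθ'', ψ, hψ, hiso, hd⟩ := happ ((i - a + 3).toNat + 1)
  exact quasiIsoAt_transpose (hθ := hθ) (hθ' := hθ'') ψ hψ hiso (by omega) hd L I a q i (by omega)

end Groth.Agent.FibDescHyper
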