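import Groth.Agent.FibDescHyper.Step
import Groth.Agent.FibDescHyper.Limit

/-!
Hypercoverings for universal descent are of descent.
-/

set_option autoImplicit false
set_option backward.isDefEq.respectTransparency false
set_option backward.isDefEq.respectTransparency.types false
set_option backward.defeqAttrib.useBackward true
set_option linter.style.haveILetI false

universe u

open CategoryTheory CategoryTheory.Limits Opposite TopologicalSpace Simplicial

namespace Groth.Agent.FibDescHyper

open FibDescLib

variable {S : TopCat.{u}}

instance hasPointwiseRan_over (n : ℕ) (G : (SimplexCategory.Truncated n)ᵒᵖ ⥤ Over S) :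
    (SimplexCategory.Truncated.inclusion n).op.HasPointwiseRightKanExtension G := by
  haveI : HasLimitsOfSize.{0, 0} (Over S) := hasLimitsOfSizeShrink.{0, 0, u, u} (Over S)
  intro x
  exact inferInstanceAs (HasLimit _)

/-- The constant family. -/
abbrev constS (S : TopCat.{u}) : SimplicialObject (Over S) := (Functor.const _).obj (Over.mk (𝟙 S))

/-- The map to the constant family. -/
def toConst (X : SimplicialObject (Over S)) : X ⟶ constS S where
  app x := Over.homMk (X.obj x).hom (Category.comp_id _)
  naturality x y a := by
    ext1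
    exact (Over.w (X.map a)).trans (Category.comp_id _).symm

theorem determined_const (N : ℕ) : Determined N (constS S) := fun X g g' _ => by
  apply NatTrans.ext
  funext x
  apply Over.OverMorphism.ext
  exact ((Category.comp_id _).symm.trans (Over.w (g.app x))).trans
    ((Over.w (g'.app x)).symm.trans (Category.comp_id _))

theorem isCohDescentTop_const : FibDesc.IsCohDescentTop (fam (constS S)) := by
  refine isCohDescentTop_of_baseChange (𝟙 S) (W := fam (constS S)) (𝟙 S)
    (fun k => WidePullback.lift (𝟙 S) (fun _ => 𝟙 S) (fun _ => Category.comp_id _)) (fun {k l} a => ?_) (fun k => ?_)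
    (isUnivCohDescentMap_of_section (𝟙 S) (𝟙 S) (Category.comp_id _) _ (𝟙 S))
  · rw [cech_spMap]
    refine WidePullback.hom_ext _ _ _ (fun i => ?_) ?_
    · show (𝟙 S ≫ WidePullback.lift _ _ _) ≫ _ = (WidePullback.lift _ _ _ ≫ WidePullback.lift _ _ _) ≫ _
      rw [Category.id_comp, Category.assoc]
      erw [WidePullback.lift_π, WidePullback.lift_π, WidePullback.lift_π]
    · show (𝟙 S ≫ WidePullback.lift _ _ _) ≫ _ = (WidePullback.lift _ _ _ ≫ WidePullback.lift _ _ _) ≫ _
      rw [Category.id_comp, Category.assoc]
      erw [WidePullback.lift_base, WidePullback.lift_base, WidePullback.lift_base]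
  · rw [cech_θ]
    haveI : IsIso (θ (fam (constS S)) k) := inferInstanceAs (IsIso (𝟙 (Over.mk (𝟙 S)).left))
    haveI : Mono (WidePullback.base (fun _ : Fin (k.len + 1) => (𝟙 S : S ⟶ S))) := ⟨fun {Z} g h e =>
      WidePullback.hom_ext _ _ _ (fun i => by
        have he : WidePullback.π (fun _ : Fin (k.len + 1) => (𝟙 S : S ⟶ S)) i =
            WidePullback.base (fun _ : Fin (k.len + 1) => (𝟙 S : S ⟶ S)) :=
          (Category.comp_id _).symm.trans (WidePullback.π_arrow (fun _ : Fin (k.len + 1) => (𝟙 S : S ⟶ S)) i)
        rw [he]; exact e) e⟩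
    exact IsPullback.of_vert_isIso_mono (snd := θ (fam (constS S)) k) ⟨WidePullback.lift_base _ _ _ _⟩

variable (K : SimplicialObject (Over S))

/-- The coskeleton of the truncation. -/
noncomputable abbrev C (n : ℕ) : SimplicialObject (Over S) := coskP ((SimplicialObject.truncation n).obj K)

/-- The unit. -/
noncomputable abbrev η (n : ℕ) : K ⟶ C K n := (SimplicialObject.coskAdj n).unit.app K

theorem isIso_η (n : ℕ) (j : SimplexCategory) (hj : j.len ≤ n) : IsIso ((η K n).app (op j)) := by
  have h := (SimplicialObject.coskAdj n).left_triangle_components K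
  haveI : IsIso ((SimplicialObject.coskAdj n).counit.app ((SimplicialObject.truncation n).obj K)) := inferInstance
  haveI : IsIso ((SimplicialObject.truncation n).map (η K n) ≫
      (SimplicialObject.coskAdj n).counit.app ((SimplicialObject.truncation n).obj K)) := by
    rw [h]
    infer_instance
  haveI : IsIso ((SimplicialObject.truncation n).map (η K n)) :=
    IsIso.of_isIso_comp_right _ ((SimplicialObject.coskAdj n).counit.app ((SimplicialObject.truncation n).obj K))
  exact inferInstanceAs (IsIso (((SimplicialObject.truncation n).map (η K n)).app (op ⟨j, hj⟩)))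

theorem exists_next (n : ℕ) : ∃ f : C K (n + 1) ⟶ C K n, η K (n + 1) ≫ f = η K n := by
  obtain ⟨f, hf⟩ := extends_cosk ((SimplicialObject.truncation n).obj K) (C K (n + 1))
    (fun j hj => haveI := isIso_η K (n + 1) j (hj.trans n.le_succ)
      inv ((η K (n + 1)).app (op j)) ≫ (η K n).app (op j))
    fun j j' h h' φ => by
      haveI := isIso_η K (n + 1) j (h.trans n.le_succ)
      haveI := isIso_η K (n + 1) j' (h'.trans n.le_succ)
      haveI : Epi ((η K (n + 1)).app (op j)) := IsIso.epi_of_iso _
      refine (cancel_epi ((η K (n + 1)).app (op j))).1 ?_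
      refine (Category.assoc _ _ _).symm.trans ?_
      refine (congrArg (fun t => t ≫ _) ((η K (n + 1)).naturality φ.op).symm).trans ?_
      rw [Category.assoc, IsIso.hom_inv_id_assoc, Category.assoc, IsIso.hom_inv_id_assoc]
      exact (η K n).naturality φ.op
  refine ⟨f, determined_cosk _ _ _ _ fun j hj => ?_⟩
  haveI := isIso_η K (n + 1) j (hj.trans n.le_succ)
  rw [NatTrans.comp_app, hf j hj, IsIso.hom_inv_id_assoc]

theorem isUnivCohDescentMap_isIso_comp {X Y Z : TopCat.{u}} (e : X ⟶ Y) [IsIso e] (g : Y ⟶ Z) (t : X ⟶ Z)
    (w : e ≫ g = t) (h : FibDesc.IsUnivCohDescentMap t) : FibDesc.IsUnivCohDescentMap g :=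
  isUnivCohDescentMap_of_comp e g (w ▸ h)

variable (h0 : FibDesc.IsUnivCohDescentMap (K.obj (op (SimplexCategory.mk 0))).hom)
  (hn : ∀ n : ℕ, FibDesc.IsUnivCohDescentMap ((η K n).app (op (SimplexCategory.mk (n + 1)))).left)

include h0 hn in
theorem isCohDescentTop_C (n : ℕ) : FibDesc.IsCohDescentTop (fam (C K n)) := by
  induction n with
  | zero =>
    have hlow : ∀ j : SimplexCategory, j.len < 0 → IsIso ((toConst (C K 0)).app (op j)) :=
      fun j hj => absurd hj (Nat.not_lt_zero _)
    refine isCohDescentTop_step (toConst (C K 0)) hlow (extends_cosk _) (determined_cosk _)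
      (isUnivCohDescentMap_app (toConst (C K 0)) hlow (fun j hj => ?_) (extends_cosk _) (determined_const 0))
      isCohDescentTop_const
    obtain rfl : j = SimplexCategory.mk 0 := SimplexCategory.ext hj
    haveI := isIso_η K 0 (SimplexCategory.mk 0) le_rfl
    exact isUnivCohDescentMap_isIso_comp ((η K 0).app (op (SimplexCategory.mk 0))).left _
      (K.obj (op (SimplexCategory.mk 0))).hom (Over.w ((η K 0).app (op (SimplexCategory.mk 0)))) h0
  | succ n ih =>
    obtain ⟨f, hf⟩ := exists_next K n
    have hlow : ∀ j : SimplexCategory, j.len < n + 1 → IsIso (f.app (op j)) := fun j hj => by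
      haveI := isIso_η K (n + 1) j hj.le
      haveI := isIso_η K n j (Nat.lt_succ_iff.1 hj)
      haveI : IsIso ((η K (n + 1)).app (op j) ≫ f.app (op j)) := by
        rw [← NatTrans.comp_app, hf]
        infer_instance
      exact IsIso.of_isIso_comp_left ((η K (n + 1)).app (op j)) _
    refine isCohDescentTop_step f hlow (extends_cosk _) (determined_cosk _)
      (isUnivCohDescentMap_app f hlow (fun j hj => ?_) (extends_cosk _) ((determined_cosk _).mono n.le_succ)) ih
    obtain rfl : j = SimplexCategory.mk (n + 1) := SimplexCategory.ext hj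
    haveI := isIso_η K (n + 1) (SimplexCategory.mk (n + 1)) le_rfl
    exact isUnivCohDescentMap_isIso_comp ((η K (n + 1)).app (op (SimplexCategory.mk (n + 1)))).left _ _
      (congrArg CommaMorphism.left (congr_app hf (op (SimplexCategory.mk (n + 1))))) (hn n)

include h0 hn in
/-- A hypercovering for universal descent is of descent. -/
theorem isCohDescentTop_fam : FibDesc.IsCohDescentTop (fam K) :=
  isCohDescentTop_of_approx (S := S) (Zl := K ⋙ Over.forget S) (θl := fun d => (K.obj (op d)).hom)
    (hθ := fun a => Over.w (K.map a.op)) fun n =>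
    ⟨C K n ⋙ Over.forget S, fun d => ((C K n).obj (op d)).hom, fun a => Over.w ((C K n).map a.op),
      Functor.whiskerRight (η K n) (Over.forget S), fun d => Over.w ((η K n).app (op d)),
      fun d hd => haveI := isIso_η K n d hd
        inferInstanceAs (IsIso ((Over.forget S).map ((η K n).app (op d)))),
      isCohDescentTop_C K h0 hn n⟩

include h0 hn in
theorem isCohDescentTop_augment :
    FibDesc.IsCohDescentTop
      (AugmentedSimplexCategory.equivAugmentedSimplicialObject.inverse.obj
        (SimplicialObject.augment (K ⋙ Over.forget S) S (K.obj (op (SimplexCategory.mk 0))).hom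
          (fun i g₁ g₂ => (Over.w (K.map g₁.op)).trans (Over.w (K.map g₂.op)).symm))) := by
  let A := AugmentedSimplexCategory.equivAugmentedSimplicialObject.inverse.obj
    (SimplicialObject.augment (K ⋙ Over.forget S) S (K.obj (op (SimplexCategory.mk 0))).hom
      (fun i g₁ g₂ => (Over.w (K.map g₁.op)).trans (Over.w (K.map g₂.op)).symm))
  let app : ∀ x, (fam K).obj x ≅ A.obj x := fun x =>
    match x with
    | op (WithInitial.of _) => Iso.refl _
    | op WithInitial.star => Iso.refl _
  refine isCohDescentTop_of_iso (NatIso.ofComponents app ?_) (isCohDescentTop_fam K h0 hn)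
  rintro ⟨x⟩ ⟨y⟩ ⟨k⟩
  cases x with
  | of i =>
    cases y with
    | of j => exact (Category.comp_id _).trans (Category.id_comp _).symm
    | star =>
      obtain rfl : k = WithInitial.homTo i := WithInitial.starInitial.hom_ext _ _
      refine (Category.comp_id _).trans (Eq.trans ?_ (Category.id_comp _).symm)
      exact (Over.w (K.map (SimplexCategory.const (SimplexCategory.mk 0) i 0).op)).symm
  | star =>
    cases y with
    | of j => exact k.elim
    | star =>
      obtain rfl : k = 𝟙 _ := WithInitial.starInitial.hom_ext _ _
      have e1 := (fam K).map_id (op WithInitial.star)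
      have e2 := A.map_id (op WithInitial.star)
      exact (congrArg (fun t => t ≫ (app (op WithInitial.star)).hom) e1).trans ((Category.id_comp _).trans
        ((Category.comp_id _).symm.trans (congrArg (fun t => (app (op WithInitial.star)).hom ≫ t) e2.symm)))

end Groth.Agent.FibDescHyper
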