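import Groth.Agent.FibDescHyper.Main
import Groth.Agent.FibDescSS.Proper
import Groth.Agent.FibDescSS.Basic
import Groth.Agent.CompactPull.BaseChange

/-!
Proper separated surjections are universally of descent; proper hypercoverings.
-/

set_option autoImplicit false
set_option backward.isDefEq.respectTransparency false
set_option backward.isDefEq.respectTransparency.types false
set_option linter.style.haveILetI false

universe u

open CategoryTheory CategoryTheory.Limits Opposite TopologicalSpace Topology

namespace Groth.Agent.FibDescHyper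

open FibDescLib

/-- Proper separated surjections are universally of descent. -/
theorem isUnivCohDescentMap_of_proper {X S : TopCat.{u}} (f : X ⟶ S) (hf : IsProperMap f)
    (hs : ∀ x x' : X, f x = f x' → x ≠ x' → ∃ U V : Set X, IsOpen U ∧ IsOpen V ∧ x ∈ U ∧ x' ∈ V ∧ Disjoint U V)
    (hsurj : Function.Surjective f) : FibDesc.IsUnivCohDescentMap f := fun S' g => by
  have sq := IsPullback.of_hasPullback f g
  refine isCohDescentMap_of_proper _ (CompactPull.isProperMap_snd sq hf) (fun a b he hne => ?_) fun y => ?_
  · have h1 : pullback.fst f g a ≠ pullback.fst f g b := fun h => hne (CompactPull.point_ext sq h he)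
    have h2 : f (pullback.fst f g a) = f (pullback.fst f g b) :=
      (ConcreteCategory.congr_hom sq.w a).trans ((congrArg g he).trans (ConcreteCategory.congr_hom sq.w b).symm)
    obtain ⟨U, V, hU, hV, ha, hb, hd⟩ := hs _ _ h2 h1
    exact ⟨_, _, hU.preimage (pullback.fst f g).hom.continuous, hV.preimage (pullback.fst f g).hom.continuous,
      ha, hb, hd.preimage _⟩
  · obtain ⟨x, hx⟩ := hsurj (g y)
    obtain ⟨a, -, ha⟩ := CompactPull.exists_point sq x y hx
    exact ⟨a, ha⟩

variable {S : TopCat.{u}} (K : SimplicialObject (Over S))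

/-- The descent spectral sequence of a proper hypercovering. -/
theorem exists_hyperSS (h : FibDesc.IsCohDescentTop (fam K)) (F : CohTop.Ab S) :
    ∃ (E : CohomologicalSpectralSequence AddCommGrpCat.{u} 1)
      (a : SpSeq.Abutment E (fun n : ℤ =>
        if 0 ≤ n then AddCommGrpCat.of (CohTop.H F n.toNat) else AddCommGrpCat.of PUnit.{u + 1})),
      (∀ n, a.IsFinite n) ∧ SpSeq.IsBounded E ∧
      ∀ p q : ℤ, Nonempty ((E.page 1 le_rfl).X (p, q) ≅
        (if 0 ≤ p ∧ 0 ≤ q then
          AddCommGrpCat.of (CohTop.H ((CohTop.pull (K.obj (op (SimplexCategory.mk p.toNat))).hom).obj F) q.toNat)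
         else AddCommGrpCat.of PUnit.{u + 1})) :=
  exists_descentSS (fam K) h F _ (AddCommGrpCat.isZero_of_subsingleton _)

end Groth.Agent.FibDescHyper
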