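import Groth.Agent.FibDescLib.FibreBC
import Groth.Agent.FibDescLib.Criterion

/-!
A retract of an augmented family of descent is of descent.
-/

set_option autoImplicit false
set_option backward.isDefEq.respectTransparency false
set_option backward.isDefEq.respectTransparency.types false
set_option backward.defeqAttrib.useBackward true
set_option linter.style.haveILetI false

universe w w' w'' v v' v'' u u' u''

open CategoryTheory CategoryTheory.Limits Opposite TopologicalSpace

namespace Groth.Agent.FibDescHyper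

open DerivedCategory

section Derived

variable {A : Type u} [Category.{v} A] [Abelian A] [HasDerivedCategory.{w} A]
  {B : Type u'} [Category.{v'} B] [Abelian B] [HasDerivedCategory.{w'} B]
  {C : Type u''} [Category.{v''} C] [Abelian C] [HasDerivedCategory.{w''} C]

/-- Composites of exact functors on derived categories. -/
noncomputable def mdComp (P : A ⥤ B) [P.Additive] [PreservesFiniteLimits P] [PreservesFiniteColimits P]
    (J : B ⥤ C) [J.Additive] [PreservesFiniteLimits J] [PreservesFiniteColimits J]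
    (P' : A ⥤ C) [P'.Additive] [PreservesFiniteLimits P'] [PreservesFiniteColimits P'] (c : P ⋙ J ≅ P') :
    P.mapDerivedCategory ⋙ J.mapDerivedCategory ≅ P'.mapDerivedCategory :=
  letI : Localization.Lifting (Q : CochainComplex A ℤ ⥤ _) (HomologicalComplex.quasiIso A (ComplexShape.up ℤ))
      (P.mapHomologicalComplex (ComplexShape.up ℤ) ⋙ J.mapHomologicalComplex (ComplexShape.up ℤ) ⋙ Q)
      (P.mapDerivedCategory ⋙ J.mapDerivedCategory) :=
    ⟨(Functor.associator _ _ _).symm ≪≫ Functor.isoWhiskerRight P.mapDerivedCategoryFactors _ ≪≫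
      Functor.associator _ _ _ ≪≫ Functor.isoWhiskerLeft _ J.mapDerivedCategoryFactors⟩
  Localization.liftNatIso Q (HomologicalComplex.quasiIso A (ComplexShape.up ℤ))
    (P.mapHomologicalComplex (ComplexShape.up ℤ) ⋙ J.mapHomologicalComplex (ComplexShape.up ℤ) ⋙ Q)
    (P'.mapHomologicalComplex (ComplexShape.up ℤ) ⋙ Q) _ _
    ((Functor.associator _ _ _).symm ≪≫ Functor.isoWhiskerRight
      (NatIso.ofComponents (fun K => HomologicalComplex.Hom.isoOfComponents (fun i => c.app (K.X i))
        (fun i j _ => (c.hom.naturality (K.d i j)).symm)) (fun f => by ext i; exact c.hom.naturality (f.f i)) :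
        P.mapHomologicalComplex (ComplexShape.up ℤ) ⋙ J.mapHomologicalComplex (ComplexShape.up ℤ) ≅
          P'.mapHomologicalComplex (ComplexShape.up ℤ)) Q)

/-- The identity on derived categories. -/
noncomputable def mdId (I : A ⥤ A) [I.Additive] [PreservesFiniteLimits I] [PreservesFiniteColimits I] (e : I ≅ 𝟭 A) :
    I.mapDerivedCategory ≅ 𝟭 (DerivedCategory A) :=
  letI : Localization.Lifting (Q : CochainComplex A ℤ ⥤ _) (HomologicalComplex.quasiIso A (ComplexShape.up ℤ))
      Q (𝟭 (DerivedCategory A)) := ⟨Functor.rightUnitor _⟩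
  Localization.liftNatIso Q (HomologicalComplex.quasiIso A (ComplexShape.up ℤ))
    (I.mapHomologicalComplex (ComplexShape.up ℤ) ⋙ Q) Q _ _
    (Functor.isoWhiskerRight
      (NatIso.ofComponents (fun K => HomologicalComplex.Hom.isoOfComponents (fun i => e.app (K.X i))
        (fun i j _ => (e.hom.naturality (K.d i j)).symm)) (fun f => by ext i; exact e.hom.naturality (f.f i)) :
        I.mapHomologicalComplex (ComplexShape.up ℤ) ≅ 𝟭 (CochainComplex A ℤ)) Q ≪≫ Functor.leftUnitor Q)

theorem bijective_map_of_retract (P : A ⥤ B) [P.Additive] [PreservesFiniteLimits P] [PreservesFiniteColimits P]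
    (J : B ⥤ C) [J.Additive] [PreservesFiniteLimits J] [PreservesFiniteColimits J]
    (J' : C ⥤ B) [J'.Additive] [PreservesFiniteLimits J'] [PreservesFiniteColimits J'] (e : J ⋙ J' ≅ 𝟭 B)
    (P' : A ⥤ C) [P'.Additive] [PreservesFiniteLimits P'] [PreservesFiniteColimits P'] (c : P ⋙ J ≅ P')
    (X Y : DerivedCategory A) (h : Function.Bijective fun g : X ⟶ Y => P'.mapDerivedCategory.map g) :
    Function.Bijective fun g : X ⟶ Y => P.mapDerivedCategory.map g := by
  haveI : (J ⋙ J').Additive := inferInstance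
  let ε := mdComp J J' (J ⋙ J') (Iso.refl _) ≪≫ mdId (J ⋙ J') e
  let γ := mdComp P J P' c
  have hJ : ∀ {U V : DerivedCategory B}, Function.Injective fun g : U ⟶ V => J.mapDerivedCategory.map g := by
    intro U V g g' hg
    have h1 : (J.mapDerivedCategory ⋙ J'.mapDerivedCategory).map g =
        (J.mapDerivedCategory ⋙ J'.mapDerivedCategory).map g' := congrArg J'.mapDerivedCategory.map hg
    exact (cancel_epi (ε.hom.app U)).1 ((ε.hom.naturality g).symm.trans
      ((congrArg (fun t => t ≫ ε.hom.app V) h1).trans (ε.hom.naturality g')))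
  let η := Iso.homCongr (γ.app X) (γ.app Y)
  have hη : ∀ g : X ⟶ Y, η ((P.mapDerivedCategory ⋙ J.mapDerivedCategory).map g) = P'.mapDerivedCategory.map g :=
    fun g => by
      simp only [η, Iso.homCongr_apply, Iso.app_inv, Iso.app_hom]
      rw [γ.hom.naturality, ← Category.assoc, Iso.inv_hom_id_app, Category.id_comp]
  refine ⟨fun g g' hg => h.1 ?_, fun m => ?_⟩
  · show P'.mapDerivedCategory.map g = P'.mapDerivedCategory.map g'
    rw [← hη g, ← hη g']
    exact congrArg η (congrArg J.mapDerivedCategory.map hg)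
  · obtain ⟨g, hg⟩ := h.2 (η (J.mapDerivedCategory.map m))
    exact ⟨g, hJ (η.injective ((hη g).trans hg))⟩

end Derived

end Groth.Agent.FibDescHyper

namespace Groth.Agent.FibDescHyper

open FibDescLib

attribute [local instance] HasDerivedCategory.standard

variable {D : Type} [SmallCategory D] {S : TopCat.{u}} {Zl Zl' : Dᵒᵖ ⥤ TopCat.{u}}
  {θl : ∀ d, Zl.obj (op d) ⟶ S} {hθ : ∀ {n m : D} (a : n ⟶ m), Zl.map a.op ≫ θl n = θl m}
  {θl' : ∀ d, Zl'.obj (op d) ⟶ S} {hθ' : ∀ {n m : D} (a : n ⟶ m), Zl'.map a.op ≫ θl' n = θl' m}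

/-- A map of families over the identity of the base. -/
def overMap (φ : Zl' ⟶ Zl) (hφ : ∀ d, φ.app (op d) ≫ θl d = θl' d) :
    AugMap (mkAug S Zl' θl' hθ') (mkAug S Zl θl hθ) where
  τ := ⟨fun d => φ.app (op d), fun a => φ.naturality a.op⟩
  g := 𝟙 S
  w d := (hφ d).trans (Category.comp_id _).symm

variable (φ : Zl' ⟶ Zl) (hφ : ∀ d, φ.app (op d) ≫ θl d = θl' d)

/-- Inverse images from the base commute with it. -/
noncomputable def overPc :
    pullF (mkAug S Zl θl hθ) ⋙ (overMap (hθ := hθ) (hθ' := hθ') φ hφ).jP ≅ pullF (mkAug S Zl' θl' hθ') :=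
  (overMap (hθ := hθ) (hθ' := hθ') φ hφ).pc.symm ≪≫
    Functor.isoWhiskerRight
      ((TopCat.Sheaf.pullbackPushforwardAdjunction AddCommGrpCat.{u} (𝟙 S)).leftAdjointUniq
        (Adjunction.id.ofNatIsoRight (G := 𝟭 (CohTop.Ab S)) (H := CohTop.push (𝟙 S))
          (NatIso.ofComponents (fun _ => Iso.refl _) fun _ => by
            apply Sheaf.hom_ext
            ext U
            rfl))) _ ≪≫
    Functor.leftUnitor _

variable (ψ : Zl ⟶ Zl') (hψ : ∀ d, ψ.app (op d) ≫ θl' d = θl d) (hr : ψ ≫ φ = 𝟙 Zl)

theorem base_eqToHom {Y : (WithInitial D)ᵒᵖ ⥤ TopCat.{u}} {x y : Tot Y} (e : x = y) :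
    (eqToHom e).base = eqToHom (congrArg (fun t => t.base) e) := by
  subst e
  rfl

include hr in
theorem retract_preimage (x : Tot (mkAug S Zl θl hθ)) :
    (overMap (hθ := hθ') (hθ' := hθ) ψ hψ).τ.H.obj ((overMap (hθ := hθ) (hθ' := hθ') φ hφ).τ.H.obj x) = x := by
  obtain ⟨⟨d⟩, W⟩ := x
  refine congrArg (fun V => (pob d V : Tot (mkAug S Zl θl hθ))) ?_
  show (Opens.map (ψ.app (op d))).obj ((Opens.map (φ.app (op d))).obj W) = W
  exact congrArg (fun t => (Opens.map t).obj W) (congr_app hr (op d))

/-- The inverse images compose to the identity. -/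
noncomputable def retractIso :
    (overMap (hθ := hθ) (hθ' := hθ') φ hφ).jP ⋙ (overMap (hθ := hθ') (hθ' := hθ) ψ hψ).jP ≅ 𝟭 _ :=
  Adjunction.leftAdjointUniq
    ((overMap (hθ := hθ) (hθ' := hθ') φ hφ).ladj.comp (overMap (hθ := hθ') (hθ' := hθ) ψ hψ).ladj)
    (Adjunction.id.ofNatIsoRight (NatIso.ofComponents (fun N =>
      (fullyFaithfulSheafToPresheaf _ _).preimageIso (NatIso.ofComponents
        (fun x => N.obj.mapIso (eqToIso (congrArg op (retract_preimage φ hφ ψ hψ hr x.unop).symm)))
        (fun {x y} k => by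
          show N.obj.map k ≫ N.obj.map _ = N.obj.map _ ≫ N.obj.map _
          rw [← Functor.map_comp, ← Functor.map_comp]
          refine congrArg _ (Quiver.Hom.unop_inj (tot_hom_ext ?_))
          simp [LMap.H, eqToHom_unop, base_eqToHom])))
      (fun {N N'} f => by
        apply Sheaf.hom_ext
        apply NatTrans.ext
        funext x
        exact (f.hom.naturality _).symm)))

include φ hφ ψ hψ hr in
/-- A retract of a family of descent is of descent. -/
theorem isCohDescentTop_of_retract (h : FibDesc.IsCohDescentTop (mkAug S Zl' θl' hθ')) :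
    FibDesc.IsCohDescentTop (mkAug S Zl θl hθ) := by
  obtain ⟨_, _, _, _, _, hlex, hFF⟩ := h
  refine ⟨inferInstance, inferInstance, inferInstance, inferInstance, inferInstance, inferInstance, fun K L => ?_⟩
  exact bijective_map_of_retract (pullF (mkAug S Zl θl hθ)) (overMap (hθ := hθ) (hθ' := hθ') φ hφ).jP
    (overMap (hθ := hθ') (hθ' := hθ) ψ hψ).jP (retractIso φ hφ ψ hψ hr) (pullF (mkAug S Zl' θl' hθ'))
    (overPc φ hφ) K.obj L.obj (hFF K L)

end Groth.Agent.FibDescHyper
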