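import Groth.Agent.FibDescHyper.Coskel
import Groth.Agent.FibDescHyper.Diag
import Groth.Agent.FibDescHyper.Retract
import Groth.Agent.FibDescLib.BiCech

/-!
Descent passes along a map of simplicial spaces of universal descent in every degree, when maps into the source are
determined by low degrees.
-/

set_option autoImplicit false
set_option backward.isDefEq.respectTransparency false
set_option backward.isDefEq.respectTransparency.types false
set_option backward.defeqAttrib.useBackward true
set_option linter.style.haveILetI false

universe u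

open CategoryTheory CategoryTheory.Limits Opposite TopologicalSpace Simplicial

namespace Groth.Agent.FibDescHyper

open FibDescLib

variable {S : TopCat.{u}}

/-- The augmented family of a simplicial space over the base. -/
abbrev fam (K : SimplicialObject (Over S)) : (WithInitial SimplexCategory)ᵒᵖ ⥤ TopCat.{u} :=
  mkAug S (K ⋙ Over.forget S) (fun d => (K.obj (op d)).hom) (fun a => Over.w (K.map a.op))

variable {K'' K' : SimplicialObject (Over S)} (f : K'' ⟶ K')

/-- The map in a degree. -/
abbrev lf (p : SimplexCategory) : (K''.obj (op p)).left ⟶ (K'.obj (op p)).left := (f.app (op p)).left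

theorem lf_nat {n m : SimplexCategory} (a : n ⟶ m) :
    (K''.map a.op).left ≫ lf f n = lf f m ≫ (K'.map a.op).left :=
  congrArg CommaMorphism.left (f.naturality a.op)

/-- The Čech nerves of the maps in all degrees. -/
noncomputable def biMap : Biᵒᵖ ⥤ TopCat.{u} where
  obj x := pow (lf f x.unop.1) x.unop.2.len
  map {x y} a := WidePullback.lift (WidePullback.base _ ≫ (K'.map a.unop.1.op).left)
    (fun i => WidePullback.π _ (a.unop.2.toOrderHom i) ≫ (K''.map a.unop.1.op).left) fun i => by
      rw [Category.assoc, lf_nat, ← Category.assoc, WidePullback.π_arrow]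
  map_id x := by
    refine WidePullback.hom_ext _ _ _ (fun i => ?_) ?_
    · simp
    · simp
  map_comp {x y z} a b := by
    refine WidePullback.hom_ext _ _ _ (fun i => ?_) ?_
    · simp
    · simp

/-- The bisimplicial family over the target. -/
noncomputable def biTower : Tower (CategoryTheory.Prod.fst SimplexCategory SimplexCategory) (fam K') where
  Zl := biMap f
  θl d := (WidePullback.base _ : pow (lf f d.1) d.2.len ⟶ _) ≫ (K'.obj (op d.1)).hom
  hθl {n m} a := by
    show WidePullback.lift _ _ _ ≫ WidePullback.base _ ≫ _ = _
    rw [WidePullback.lift_base_assoc, Category.assoc]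
    exact congrArg (CategoryStruct.comp _) (Over.w (K'.map a.1.op))
  τ d := WidePullback.base _
  τ_nat {n m} a := WidePullback.lift_base _ _ _ _
  w d := rfl

theorem descent_slice (n : SimplexCategory) (h : FibDesc.IsUnivCohDescentMap (lf f n)) :
    FibDesc.IsCohDescentTop ((sliceX n).Zn (biTower f)) := by
  refine isCohDescentTop_of_baseChange (lf f n) (W := (sliceX n).Zn (biTower f)) (𝟙 (K'.obj (op n)).left)
    (fun k => 𝟙 _) (fun {k l} a => ?_) (fun k => ?_) (h _ (𝟙 _))
  · rw [cech_spMap]
    refine (Category.comp_id _).trans (Eq.trans ?_ (Category.id_comp _).symm)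
    refine WidePullback.hom_ext _ _ _ (fun i => ?_) ?_
    · show (biMap f).map (Prod.mkHom (𝟙 n) a : ((n, k) : Bi) ⟶ (n, l)).op ≫ WidePullback.π (fun _ : Fin (k.len + 1) => lf f n) i =
        WidePullback.lift _ (fun i => WidePullback.π _ (a.toOrderHom i)) _ ≫ WidePullback.π (fun _ : Fin (k.len + 1) => lf f n) i
      simp only [biMap]
      erw [WidePullback.lift_π, WidePullback.lift_π]
      erw [K''.map_id]
      exact Category.comp_id _
    · show (biMap f).map (Prod.mkHom (𝟙 n) a : ((n, k) : Bi) ⟶ (n, l)).op ≫ WidePullback.base (fun _ : Fin (k.len + 1) => lf f n) =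
        WidePullback.lift _ (fun i => WidePullback.π _ (a.toOrderHom i)) _ ≫ WidePullback.base (fun _ : Fin (k.len + 1) => lf f n)
      simp only [biMap]
      erw [WidePullback.lift_base, WidePullback.lift_base]
      erw [K'.map_id]
      exact Category.comp_id _
  · have e : (sliceX n).st (biTower f) k = (biTower f).τ (n, k) :=
      (congrArg (fun t => (biTower f).τ (n, k) ≫ t) (spMap_id (fam K') n)).trans (Category.comp_id _)
    show IsPullback (𝟙 _) ((sliceX n).st (biTower f) k) _ (𝟙 _)
    rw [e]
    haveI : IsIso (𝟙 (K'.obj (op n)).left) := inferInstance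
    exact IsPullback.of_horiz_isIso ⟨by
      rw [Category.id_comp, Category.comp_id]
      rfl⟩

/-- The diagonal of the bisimplicial family. -/
noncomputable def diagK : SimplicialObject (Over S) where
  obj x := Over.mk ((biTower f).θl (dg.obj x.unop) : (biMap f).obj (op (dg.obj x.unop)) ⟶ S)
  map {x y} a := Over.homMk ((biMap f).map (dg.map a.unop).op) ((biTower f).hθl (dg.map a.unop))
  map_id x := by
    ext1
    exact (biMap f).map_id _
  map_comp a b := by
    ext1
    show (biMap f).map _ = (biMap f).map _ ≫ (biMap f).map _
    rw [← Functor.map_comp]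
    rfl

/-- The diagonal embedding of the source. -/
noncomputable def toDiagK : K'' ⟶ diagK f where
  app x := Over.homMk (WidePullback.lift (lf f x.unop) (fun _ => 𝟙 _) (fun _ => Category.id_comp _)) (by
    show WidePullback.lift _ _ _ ≫ WidePullback.base _ ≫ _ = _
    rw [WidePullback.lift_base_assoc]
    exact Over.w (f.app x))
  naturality {x y} a := by
    ext1
    show (K''.map a).left ≫ WidePullback.lift _ _ _ = WidePullback.lift _ _ _ ≫ (biMap f).map (dg.map a.unop).op
    refine WidePullback.hom_ext _ _ _ (fun i => ?_) ?_
    · simp [biMap]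
    · simp [biMap]
      exact lf_nat f a.unop

/-- A projection of the diagonal. -/
noncomputable def projK (x : SimplexCategory) (i : Fin (x.len + 1)) : (diagK f).obj (op x) ⟶ K''.obj (op x) :=
  Over.homMk (WidePullback.π _ i) (by
    show WidePullback.π _ i ≫ _ = WidePullback.base _ ≫ _
    refine Eq.trans ?_ (congrArg (fun t => t ≫ (K'.obj (op x)).hom) (WidePullback.π_arrow (fun _ : Fin (x.len + 1) => lf f x) i))
    exact (congrArg (CategoryStruct.comp _) (Over.w (f.app (op x))).symm).trans (Category.assoc _ _ _).symm)

theorem map_projK {x y : SimplexCategory} (φ : y ⟶ x) (i : Fin (y.len + 1)) :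
    (diagK f).map φ.op ≫ projK f y i = projK f x (φ.toOrderHom i) ≫ K''.map φ.op := by
  ext1
  exact WidePullback.lift_π _ _ _ _ _

theorem toDiagK_projK (x : SimplexCategory) (i : Fin (x.len + 1)) :
    (toDiagK f).app (op x) ≫ projK f x i = 𝟙 _ := by
  ext1
  exact WidePullback.lift_π _ _ _ _ _

theorem projK_f (x : SimplexCategory) (i j : Fin (x.len + 1)) : projK f x i ≫ f.app (op x) = projK f x j ≫ f.app (op x) := by
  ext1
  exact (WidePullback.π_arrow (fun _ : Fin (x.len + 1) => lf f x) i).trans
    (WidePullback.π_arrow (fun _ : Fin (x.len + 1) => lf f x) j).symm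

variable {N : ℕ} (hlow : ∀ j : SimplexCategory, j.len < N → IsIso (f.app (op j)))

include hlow in
theorem projK_eq (x : SimplexCategory) (hx : x.len < N) (i j : Fin (x.len + 1)) : projK f x i = projK f x j := by
  haveI := hlow x hx
  rw [← cancel_mono (f.app (op x))]
  exact projK_f f x i j

include hlow in
theorem exists_retraction (hext : Extends N K'') (hdet : Determined N K'') :
    ∃ r : diagK f ⟶ K'', toDiagK f ≫ r = 𝟙 _ := by
  obtain ⟨r, hr⟩ := hext (diagK f) (fun j _ => projK f j 0) fun j j' h h' φ => by
    rw [map_projK]
    by_cases hj : j.len < N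
    · rw [projK_eq f hlow j hj (φ.toOrderHom 0) 0]
    by_cases hj' : j'.len < N
    · haveI := hlow j' hj'
      rw [← cancel_mono (f.app (op j')), Category.assoc, Category.assoc, f.naturality, ← Category.assoc,
        ← Category.assoc, projK_f f j (φ.toOrderHom 0) 0]
    obtain rfl : j' = j := SimplexCategory.ext (by omega)
    by_cases hφ : Mono φ
    · rw [SimplexCategory.eq_id_of_mono φ]
      rfl
    · obtain ⟨k, e, i, -, -, hfac, hk⟩ := exists_factor h φ hφ
      haveI := hlow k hk
      have hi : ∀ a b, projK f j' a ≫ K''.map i.op = projK f j' b ≫ K''.map i.op := fun a b => by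
        rw [← cancel_mono (f.app (op k)), Category.assoc, Category.assoc, f.naturality, ← Category.assoc,
          ← Category.assoc, projK_f f j' a b]
      rw [← hfac, op_comp, Functor.map_comp, ← Category.assoc, ← Category.assoc]
      exact congrArg (fun t => t ≫ K''.map e.op) (hi _ _)
  refine ⟨r, hdet _ _ _ fun j hj => ?_⟩
  rw [NatTrans.comp_app, hr j hj, toDiagK_projK]
  rfl

set_option maxHeartbeats 1000000 in
include hlow in
/-- Descent passes to the source. -/
theorem isCohDescentTop_step (hext : Extends N K'') (hdet : Determined N K'')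
    (hf : ∀ n, FibDesc.IsUnivCohDescentMap (lf f n)) (h : FibDesc.IsCohDescentTop (fam K')) :
    FibDesc.IsCohDescentTop (fam K'') := by
  obtain ⟨r, hr⟩ := exists_retraction f hlow hext hdet
  have hZ := (biTower f).isCohDescentTop_Z sliceX (fun n => descent_slice f n (hf n)) h
  have hd := isCohDescentTop_diag (biTower f).Z hZ
  let φ : dg.op ⋙ lev (biTower f).Z ⟶ K'' ⋙ Over.forget S :=
    { app := fun x => (r.app x).left
      naturality := fun x y a => congrArg CommaMorphism.left (r.naturality a) }
  let ψ : K'' ⋙ Over.forget S ⟶ dg.op ⋙ lev (biTower f).Z :=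
    { app := fun x => ((toDiagK f).app x).left
      naturality := fun x y a => congrArg CommaMorphism.left ((toDiagK f).naturality a) }
  have hd' : FibDesc.IsCohDescentTop (mkAug S (dg.op ⋙ lev (biTower f).Z)
      (fun d => (biTower f).θl (dg.obj d)) (fun a => (biTower f).hθl (dg.map a))) := hd
  refine isCohDescentTop_of_retract (Zl := K'' ⋙ Over.forget S) (Zl' := dg.op ⋙ lev (biTower f).Z)
    (θl := fun d => (K''.obj (op d)).hom) (hθ := fun a => Over.w (K''.map a.op))
    (θl' := fun d => (biTower f).θl (dg.obj d)) (hθ' := fun a => (biTower f).hθl (dg.map a)) φ ?_ ψ ?_ ?_ hd'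
  · exact fun d => Over.w (r.app (op d))
  · exact fun d => Over.w ((toDiagK f).app (op d))
  · exact NatTrans.ext (funext fun x => congrArg CommaMorphism.left (congr_app hr x))

end Groth.Agent.FibDescHyper
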